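import Mathlib
import Cfsg.Agent.Lib.LinGroup.Generation
import Cfsg.Agent.Lib.GLFlags.Bruhat

/-!
Monomial and unitriangular elements of `SL n F`.
-/

set_option autoImplicit false
set_option linter.unusedSectionVars false

namespace Cfsg.Agent.Lib.SLBlocks

open Matrix Cfsg.Agent.Lib.LinGroup

variable {F : Type} [Field F] [Fintype F] {n : ℕ}

theorem sl_mul (a b : SpecialLinearGroup (Fin n) F) :
    ((a * b : SpecialLinearGroup (Fin n) F) : Matrix (Fin n) (Fin n) F) = (a : Matrix (Fin n) (Fin n) F) * (b : Matrix (Fin n) (Fin n) F) := rfl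

theorem sl_one : ((1 : SpecialLinearGroup (Fin n) F) : Matrix (Fin n) (Fin n) F) = 1 := rfl

theorem sl_pow (a : SpecialLinearGroup (Fin n) F) (k : ℕ) :
    ((a ^ k : SpecialLinearGroup (Fin n) F) : Matrix (Fin n) (Fin n) F) = (a : Matrix (Fin n) (Fin n) F) ^ k :=
  Matrix.SpecialLinearGroup.coe_pow a k

theorem sl_transpose (a : SpecialLinearGroup (Fin n) F) :
    ((a.transpose : SpecialLinearGroup (Fin n) F) : Matrix (Fin n) (Fin n) F) = (a : Matrix (Fin n) (Fin n) F).transpose := rfl

/-- The monomial elements with permutation `w`. -/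
def IsMon (g : SpecialLinearGroup (Fin n) F) (w : Equiv.Perm (Fin n)) : Prop :=
  ∀ r b, r ≠ w b → (g : Matrix (Fin n) (Fin n) F) r b = 0

theorem mon_mul_apply {g X : SpecialLinearGroup (Fin n) F} {w : Equiv.Perm (Fin n)} (hg : IsMon g w) (a b : Fin n) :
    ((g * X : SpecialLinearGroup (Fin n) F) : Matrix (Fin n) (Fin n) F) (w a) b =
      (g : Matrix (Fin n) (Fin n) F) (w a) a * (X : Matrix (Fin n) (Fin n) F) a b := by
  rw [sl_mul, Matrix.mul_apply, Fintype.sum_eq_single a]
  intro k hk
  rw [hg _ _ (fun h => hk (w.injective h).symm), zero_mul]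

theorem mul_mon_apply {g X : SpecialLinearGroup (Fin n) F} {w : Equiv.Perm (Fin n)} (hg : IsMon g w) (r b : Fin n) :
    ((X * g : SpecialLinearGroup (Fin n) F) : Matrix (Fin n) (Fin n) F) r b =
      (X : Matrix (Fin n) (Fin n) F) r (w b) * (g : Matrix (Fin n) (Fin n) F) (w b) b := by
  rw [sl_mul, Matrix.mul_apply, Fintype.sum_eq_single (w b)]
  intro k hk
  rw [hg _ _ hk, mul_zero]

theorem mon_ne_zero {g : SpecialLinearGroup (Fin n) F} {w : Equiv.Perm (Fin n)} (hg : IsMon g w) (b : Fin n) :
    (g : Matrix (Fin n) (Fin n) F) (w b) b ≠ 0 := by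
  intro h
  have := mul_mon_apply (X := g⁻¹) hg b b
  rw [inv_mul_cancel, h, mul_zero, sl_one, Matrix.one_apply_eq] at this
  exact one_ne_zero this

theorem mon_conj_apply {g X : SpecialLinearGroup (Fin n) F} {w : Equiv.Perm (Fin n)} (hg : IsMon g w) (a b : Fin n) :
    ((g * X * g⁻¹ : SpecialLinearGroup (Fin n) F) : Matrix (Fin n) (Fin n) F) (w a) (w b) *
        (g : Matrix (Fin n) (Fin n) F) (w b) b =
      (g : Matrix (Fin n) (Fin n) F) (w a) a * (X : Matrix (Fin n) (Fin n) F) a b := by
  rw [← mul_mon_apply hg, inv_mul_cancel_right, mon_mul_apply hg]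

/-- The upper unitriangular subgroup. -/
def upper (F : Type) [Field F] [Fintype F] (n : ℕ) : Subgroup (SpecialLinearGroup (Fin n) F) where
  carrier := {g | ∀ i j, (j < i → (g : Matrix (Fin n) (Fin n) F) i j = 0) ∧ (g : Matrix (Fin n) (Fin n) F) i i = 1}
  one_mem' := fun i j => ⟨fun h => Matrix.one_apply_ne h.ne', Matrix.one_apply_eq _⟩
  mul_mem' := fun {a b} ha hb i j => by
    constructor
    · intro hji
      rw [sl_mul, Matrix.mul_apply]
      refine Finset.sum_eq_zero fun k _ => ?_
      rcases lt_or_ge k i with h | h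
      · rw [(ha i k).1 h, zero_mul]
      · rw [(hb k j).1 (lt_of_lt_of_le hji h), mul_zero]
    · rw [sl_mul, Matrix.mul_apply, Fintype.sum_eq_single i, (ha i i).2, (hb i i).2, mul_one]
      intro k hk
      rcases lt_or_gt_of_ne hk with h | h
      · rw [(ha i k).1 h, zero_mul]
      · rw [(hb k i).1 h, mul_zero]
  inv_mem' := fun {a} ha i j => by
    have h1 : BlockTriangular (a : Matrix (Fin n) (Fin n) F) id := fun r c h => (ha r c).1 h
    have hinv : ((a⁻¹ : SpecialLinearGroup (Fin n) F) : Matrix (Fin n) (Fin n) F) = (a : Matrix (Fin n) (Fin n) F)⁻¹ := by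
      refine (Matrix.inv_eq_left_inv ?_).symm
      rw [← sl_mul, inv_mul_cancel, sl_one]
    have : Invertible (a : Matrix (Fin n) (Fin n) F) := ⟨_, by rw [← sl_mul, inv_mul_cancel, sl_one], by rw [← sl_mul, mul_inv_cancel, sl_one]⟩
    have h2 : BlockTriangular ((a⁻¹ : SpecialLinearGroup (Fin n) F) : Matrix (Fin n) (Fin n) F) id := by
      rw [hinv]; exact Matrix.blockTriangular_inv_of_blockTriangular h1
    refine ⟨fun h => h2 h, ?_⟩
    have h3 : ((a⁻¹ * a : SpecialLinearGroup (Fin n) F) : Matrix (Fin n) (Fin n) F) i i = 1 := by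
      rw [inv_mul_cancel]; exact Matrix.one_apply_eq _
    rw [sl_mul, Matrix.mul_apply, Fintype.sum_eq_single i, (ha i i).2, mul_one] at h3
    · exact h3
    intro k hk
    rcases lt_or_gt_of_ne hk with h | h
    · rw [h2 h, zero_mul]
    · rw [(ha k i).1 h, mul_zero]

/-- The lower unitriangular subgroup. -/
def lower (F : Type) [Field F] [Fintype F] (n : ℕ) : Subgroup (SpecialLinearGroup (Fin n) F) where
  carrier := {g | g.transpose ∈ upper F n}
  one_mem' := by
    show SpecialLinearGroup.transpose 1 ∈ upper F n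
    rw [show SpecialLinearGroup.transpose (1 : SpecialLinearGroup (Fin n) F) = 1 from Subtype.ext Matrix.transpose_one]
    exact one_mem _
  mul_mem' := fun {a b} ha hb => by
    show SpecialLinearGroup.transpose (a * b) ∈ upper F n
    rw [show SpecialLinearGroup.transpose (a * b) = b.transpose * a.transpose from Subtype.ext (Matrix.transpose_mul _ _)]
    exact mul_mem hb ha
  inv_mem' := fun {a} ha => by
    show SpecialLinearGroup.transpose a⁻¹ ∈ upper F n
    rw [show SpecialLinearGroup.transpose a⁻¹ = a.transpose⁻¹ from eq_inv_of_mul_eq_one_left (by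
      rw [show a⁻¹.transpose * a.transpose = (a * a⁻¹).transpose from Subtype.ext (Matrix.transpose_mul _ _).symm,
        mul_inv_cancel]
      exact Subtype.ext Matrix.transpose_one)]
    exact inv_mem ha

theorem mem_upper {g : SpecialLinearGroup (Fin n) F} : g ∈ upper F n ↔
    ∀ i j, (j < i → (g : Matrix (Fin n) (Fin n) F) i j = 0) ∧ (g : Matrix (Fin n) (Fin n) F) i i = 1 := Iff.rfl

theorem mem_lower {g : SpecialLinearGroup (Fin n) F} : g ∈ lower F n ↔
    ∀ i j, (i < j → (g : Matrix (Fin n) (Fin n) F) i j = 0) ∧ (g : Matrix (Fin n) (Fin n) F) i i = 1 :=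
  ⟨fun h i j => ⟨fun hij => (h j i).1 hij, (h i i).2⟩, fun h i j => ⟨fun hij => (h j i).1 hij, (h i i).2⟩⟩

theorem transvection_mem_upper {i j : Fin n} (hij : i < j) (t : F) :
    SpecialLinearGroup.transvection hij.ne t ∈ upper F n := by
  intro r c
  rw [coe_transvection]
  refine ⟨fun h => ?_, ?_⟩
  · rw [Matrix.transvection, Matrix.add_apply, Matrix.one_apply_ne h.ne', Matrix.single_apply, if_neg, add_zero]
    rintro ⟨rfl, rfl⟩
    exact lt_asymm h hij
  · rw [Matrix.transvection, Matrix.add_apply, Matrix.one_apply_eq, Matrix.single_apply, if_neg, add_zero]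
    rintro ⟨rfl, rfl⟩
    exact lt_irrefl _ hij

theorem transvection_mem_lower {i j : Fin n} (hij : j < i) (t : F) :
    SpecialLinearGroup.transvection hij.ne' t ∈ lower F n := by
  rw [mem_lower]
  intro r c
  rw [coe_transvection]
  refine ⟨fun h => ?_, ?_⟩
  · rw [Matrix.transvection, Matrix.add_apply, Matrix.one_apply_ne h.ne, Matrix.single_apply, if_neg, add_zero]
    rintro ⟨rfl, rfl⟩
    exact lt_asymm h hij
  · rw [Matrix.transvection, Matrix.add_apply, Matrix.one_apply_eq, Matrix.single_apply, if_neg, add_zero]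
    rintro ⟨rfl, rfl⟩
    exact lt_irrefl _ hij

theorem pow_card_eq_one_of_mem_upper (p : ℕ) [Fact p.Prime] [CharP F p] {g : SpecialLinearGroup (Fin n) F}
    (hg : g ∈ upper F n) : g ^ p ^ n = 1 := by
  rcases isEmpty_or_nonempty (Fin n) with h | h
  · exact Subtype.ext (Matrix.ext fun i => isEmptyElim i)
  refine Subtype.ext ?_
  rw [sl_pow, sl_one, ← sub_eq_zero]
  have h1 : ((g : Matrix (Fin n) (Fin n) F) - 1).charpoly = Polynomial.X ^ n := by
    rw [Matrix.charpoly_of_isUpperTriangular]
    · rw [Finset.prod_eq_pow_card (b := (Polynomial.X : Polynomial F))]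
      · simp
      · intro i _
        simp [(hg i i).2]
    · intro i j hij
      rw [Matrix.sub_apply, (hg i j).1 hij, zero_sub, neg_eq_zero]
      exact Matrix.one_apply_ne (ne_of_gt hij)
  have h2 : ((g : Matrix (Fin n) (Fin n) F) - 1) ^ n = 0 := by
    have := Matrix.aeval_self_charpoly ((g : Matrix (Fin n) (Fin n) F) - 1)
    rwa [h1, map_pow, Polynomial.aeval_X] at this
  have h3 : n ≤ p ^ n := (Nat.lt_pow_self (Fact.out : p.Prime).one_lt).le
  have h4 := sub_pow_char_pow_of_commute (x := (g : Matrix (Fin n) (Fin n) F)) (y := 1) p n (Commute.one_right _)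
  rw [pow_eq_zero_of_le h3 h2, one_pow] at h4
  exact h4.symm

theorem isPGroup_upper (p : ℕ) [Fact p.Prime] [CharP F p] : IsPGroup p (upper F n) :=
  fun g => ⟨n, Subtype.ext (pow_card_eq_one_of_mem_upper p g.2)⟩

theorem isPGroup_lower (p : ℕ) [Fact p.Prime] [CharP F p] : IsPGroup p (lower F n) := by
  rintro ⟨g, hg⟩
  refine ⟨n, Subtype.ext ?_⟩
  show g ^ p ^ n = 1
  have h1 : g.transpose ^ p ^ n = 1 := pow_card_eq_one_of_mem_upper p hg
  refine Subtype.ext ?_
  have h2 := congrArg (fun x : SpecialLinearGroup (Fin n) F => (x : Matrix (Fin n) (Fin n) F)) h1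
  simp only [sl_pow, sl_one, sl_transpose,
    ← Matrix.transpose_pow, Matrix.transpose_eq_one] at h2
  rw [sl_pow, sl_one, h2]

/-- A product of unitriangular elements at an entry next to the diagonal. -/
theorem upper_mul_apply_adjacent {a b : SpecialLinearGroup (Fin n) F} (ha : a ∈ upper F n) (hb : b ∈ upper F n)
    {i j : Fin n} (hij : (j : ℕ) = i + 1) :
    ((a * b : SpecialLinearGroup (Fin n) F) : Matrix (Fin n) (Fin n) F) i j =
      (a : Matrix (Fin n) (Fin n) F) i j + (b : Matrix (Fin n) (Fin n) F) i j := by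
  have hne : i ≠ j := fun h => by rw [h] at hij; omega
  rw [sl_mul, Matrix.mul_apply, Fintype.sum_eq_add i j hne]
  · rw [(ha i i).2, (hb j j).2, one_mul, mul_one, add_comm]
  · rintro k ⟨hki, hkj⟩
    rcases lt_or_gt_of_ne hki with h | h
    · rw [(ha i k).1 h, zero_mul]
    · rw [(hb k j).1 (Fin.lt_def.2 (by
        have h1 : (k : ℕ) ≠ j := fun e => hkj (Fin.ext e)
        have := Fin.lt_def.1 h
        omega)), mul_zero]

/-- The standard monomial element for a pair of indices. -/
def nE {i j : Fin n} (hij : i ≠ j) : SpecialLinearGroup (Fin n) F :=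
  SpecialLinearGroup.transvection hij 1 * SpecialLinearGroup.transvection hij.symm (-1) *
    SpecialLinearGroup.transvection hij 1

theorem isMon_nE {i j : Fin n} (hij : i ≠ j) : IsMon (nE (F := F) hij) (Equiv.swap i j) := by
  intro r b hr
  have h1 : ((nE (F := F) hij : SpecialLinearGroup (Fin n) F) : Matrix (Fin n) (Fin n) F) r b =
      ((nE (F := F) hij : SpecialLinearGroup (Fin n) F) : Matrix (Fin n) (Fin n) F).mulVec (Pi.single b 1) r := by
    rw [Matrix.mulVec_single_one]; rfl
  rw [h1]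
  simp only [nE, sl_mul]
  simp only [coe_transvection, ← Matrix.mulVec_mulVec, transvection_mulVec_apply]
  rw [Equiv.swap_apply_def] at hr
  by_cases hri : r = i
  · subst hri
    split_ifs at hr with h1 h2
    · subst h1; simp [hij, hij.symm]
    · exact absurd rfl hr
    · simp [hij, hij.symm, Ne.symm h1, Ne.symm h2, Pi.single_apply]
  · by_cases hrj : r = j
    · subst hrj
      split_ifs at hr with h1 h2
      · exact absurd rfl hr
      · subst h2; simp [hij, hij.symm]
      · simp [hij, hij.symm, Ne.symm h1, Ne.symm h2, Pi.single_apply]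
    · split_ifs at hr with h1 h2
      · subst h1; simp [hri, hrj]
      · subst h2; simp [hri, hrj]
      · simp [hri, hrj, hr, Pi.single_apply]

/-- The basic relation in rank one. -/
theorem transvection_mul_nE {i j : Fin n} (hij : i ≠ j) {t : F} (ht : t ≠ 0) :
    SpecialLinearGroup.transvection hij t * nE hij =
      SpecialLinearGroup.transvection hij.symm t⁻¹ * SpecialLinearGroup.diag2n hij (-t) (neg_ne_zero.2 ht) *
        SpecialLinearGroup.transvection hij (-t⁻¹) := by
  refine SL_ext_mulVec fun w k => ?_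
  change ((Matrix.transvection i j t * (Matrix.transvection i j 1 * Matrix.transvection j i (-1 : F) *
    Matrix.transvection i j 1)) *ᵥ w) k = ((Matrix.transvection j i t⁻¹ *
      diagonal (fun l => if l = i then -t else if l = j then (-t)⁻¹ else 1) * Matrix.transvection i j (-t⁻¹)) *ᵥ w) k
  simp only [← Matrix.mulVec_mulVec, mulVec_diagonal, transvection_mulVec_apply]
  by_cases hki : k = i
  · subst hki
    simp [hij, hij.symm]
    field_simp
    ring
  · by_cases hkj : k = j
    · subst hkj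
      simp [hij, hij.symm]
      field_simp
      ring
    · simp [hki, hkj]

theorem diag2n_neg_one {i j : Fin n} (hij : i ≠ j) (h : -(-1 : F) ≠ 0) :
    SpecialLinearGroup.diag2n hij (-(-1 : F)) h = 1 := by
  refine SL_ext_mulVec fun w k => ?_
  change (diagonal (fun l => if l = i then -(-1 : F) else if l = j then (-(-1 : F))⁻¹ else 1) *ᵥ w) k = ((1 : Matrix (Fin n) (Fin n) F) *ᵥ w) k
  simp [mulVec_diagonal]

theorem isMon_diag2n {i j : Fin n} (hij : i ≠ j) (a : F) (ha : a ≠ 0) :
    IsMon (SpecialLinearGroup.diag2n hij a ha) 1 := fun r b h => by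
  show Matrix.diagonal _ r b = 0
  exact Matrix.diagonal_apply_ne _ h

/-- Diagonal elements are products of rank-one ones. -/
theorem diag_induction (P : SpecialLinearGroup (Fin n) F → Prop) (h1 : P 1)
    (hmul : ∀ d e, P d → P e → P (d * e))
    (hgen : ∀ (i j : Fin n) (hij : i ≠ j) (a : F) (ha : a ≠ 0), (j : ℕ) = i + 1 → P (SpecialLinearGroup.diag2n hij a ha))
    {d : SpecialLinearGroup (Fin n) F} (hd : IsMon d 1) : P d := by
  suffices ∀ m k, k + m = n → ∀ d : SpecialLinearGroup (Fin n) F, IsMon d 1 →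
      (∀ a : Fin n, (a : ℕ) < k → (d : Matrix (Fin n) (Fin n) F) a a = 1) → P d from
    this n 0 (by omega) d hd (by omega)
  intro m
  induction m with
  | zero =>
    intro k hk d hd hd1
    rw [show d = 1 from Subtype.ext (Matrix.ext fun r c => ?_)]
    · exact h1
    rcases eq_or_ne r c with rfl | hrc
    · rw [hd1 r (by omega)]; exact (Matrix.one_apply_eq _).symm
    · rw [hd r c hrc]; exact (Matrix.one_apply_ne hrc).symm
  | succ m ih =>
    intro k hk d hd hd1
    by_cases hlast : k + 1 = n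
    · refine ih (k + 1) (by omega) d hd fun a ha => ?_
      rcases (by omega : (a : ℕ) < k ∨ (a : ℕ) = k) with h | h
      · exact hd1 a h
      have hdet := d.2
      rw [show (d : Matrix (Fin n) (Fin n) F) = Matrix.diagonal fun r => (d : Matrix (Fin n) (Fin n) F) r r from
        Matrix.ext fun r c => by
          rcases eq_or_ne r c with rfl | hrc
          · rw [Matrix.diagonal_apply_eq]
          · rw [hd r c hrc, Matrix.diagonal_apply_ne _ hrc], Matrix.det_diagonal, Fintype.prod_eq_single a] at hdet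
      · exact hdet
      intro r hr
      exact hd1 r (by have := r.isLt; have : (r : ℕ) ≠ a := fun e => hr (Fin.ext e); omega)
    let i : Fin n := ⟨k, by omega⟩
    let j : Fin n := ⟨k + 1, by omega⟩
    have hij : i ≠ j := fun h => by simp [i, j, Fin.ext_iff] at h
    have hne : (d : Matrix (Fin n) (Fin n) F) i i ≠ 0 := mon_ne_zero hd i
    have he := isMon_diag2n hij _ (inv_ne_zero hne)
    have hmon : IsMon (d * SpecialLinearGroup.diag2n hij _ (inv_ne_zero hne)) 1 := fun r c hrc => by
      refine (mul_mon_apply he r c).trans (mul_eq_zero_of_left ?_ _)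
      exact hd r _ hrc
    have hP := ih (k + 1) (by omega) _ hmon fun a ha => by
      have h2 := mul_mon_apply (X := d) he a a
      simp only [Equiv.Perm.coe_one, id_eq] at h2
      rw [h2]
      show _ * Matrix.diagonal _ a a = 1
      rw [Matrix.diagonal_apply_eq]
      rcases (by omega : (a : ℕ) < k ∨ (a : ℕ) = k) with h | h
      · rw [hd1 a h, one_mul, if_neg (fun e => by simp [i, e] at h), if_neg (fun e => by simp [j, e] at h)]
      · have : a = i := Fin.ext h
        subst this
        rw [if_pos rfl, mul_inv_cancel₀ hne]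
    have hback : SpecialLinearGroup.diag2n hij _ (inv_ne_zero hne) * SpecialLinearGroup.diag2n hij _ hne = 1 := by
      refine SL_ext_mulVec fun w l => ?_
      change ((diagonal (fun l => if l = i then ((d : Matrix (Fin n) (Fin n) F) i i)⁻¹ else if l = j then ((d : Matrix (Fin n) (Fin n) F) i i)⁻¹⁻¹ else 1) *
        diagonal (fun l => if l = i then (d : Matrix (Fin n) (Fin n) F) i i else if l = j then ((d : Matrix (Fin n) (Fin n) F) i i)⁻¹ else 1)) *ᵥ w) l = ((1 : Matrix (Fin n) (Fin n) F) *ᵥ w) l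
      rw [Matrix.diagonal_mul_diagonal, mulVec_diagonal, Matrix.one_mulVec]
      split_ifs <;> simp [hne]
    have := hmul _ _ hP (hgen i j hij _ hne rfl)
    rwa [mul_assoc, hback, mul_one] at this

/-- Bruhat decomposition in `SL`. -/
theorem exists_bruhat_SL [NeZero n] (g : SpecialLinearGroup (Fin n) F) :
    ∃ (w : Equiv.Perm (Fin n)) (b m b' : SpecialLinearGroup (Fin n) F), IsMon m w ∧
      (∀ r c, c < r → (b : Matrix (Fin n) (Fin n) F) r c = 0) ∧ (∀ r c, c < r → (b' : Matrix (Fin n) (Fin n) F) r c = 0) ∧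
      g = b * m * b' := by
  obtain ⟨w, b, hb, b', hb', e⟩ := GLFlags.exists_bruhat (SpecialLinearGroup.toGL g)
  let δ : F := (b : Matrix (Fin n) (Fin n) F).det
  let ε : F := (GLFlags.permGL w : GL (Fin n) F).val.det
  have hδ : δ ≠ 0 := ((Matrix.isUnit_iff_isUnit_det _).1 b.isUnit).ne_zero
  have hε : ε ≠ 0 := ((Matrix.isUnit_iff_isUnit_det _).1 (GLFlags.permGL w).isUnit).ne_zero
  let dg : F → Matrix (Fin n) (Fin n) F := fun x => Matrix.diagonal (Function.update (fun _ => (1 : F)) 0 x)
  have hdet : ∀ x, (dg x).det = x := fun x => by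
    rw [Matrix.det_diagonal, Fintype.prod_eq_single 0 (fun r hr => Function.update_of_ne hr _ _), Function.update_self]
  have hdd : ∀ x, x ≠ 0 → dg x * dg x⁻¹ = 1 := fun x hx => by
    rw [Matrix.diagonal_mul_diagonal, ← Matrix.diagonal_one]
    congr 1
    funext r
    rcases eq_or_ne r 0 with rfl | hr
    · simp [hx]
    · simp [hr]
  have hprod := congrArg (fun x : GL (Fin n) F => x.val.det) e
  simp only [Units.val_mul, Matrix.det_mul] at hprod
  rw [show ((SpecialLinearGroup.toGL g : GL (Fin n) F) : Matrix (Fin n) (Fin n) F).det = 1 from g.2] at hprod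
  have hb'det : (b' : Matrix (Fin n) (Fin n) F).det = (δ * ε)⁻¹ := (eq_inv_of_mul_eq_one_left (by rw [mul_comm]; exact hprod.symm))
  refine ⟨w, ⟨(b : Matrix (Fin n) (Fin n) F) * dg δ⁻¹, ?_⟩,
    ⟨dg δ * (GLFlags.permGL w : GL (Fin n) F).val * dg (δ * ε)⁻¹, ?_⟩,
    ⟨dg (δ * ε) * (b' : Matrix (Fin n) (Fin n) F), ?_⟩, ?_, ?_, ?_, ?_⟩
  · rw [Matrix.det_mul, hdet]; exact mul_inv_cancel₀ hδ
  · rw [Matrix.det_mul, Matrix.det_mul, hdet, hdet]; exact mul_inv_cancel₀ (mul_ne_zero hδ hε)
  · rw [Matrix.det_mul, hdet, hb'det]; exact mul_inv_cancel₀ (mul_ne_zero hδ hε)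
  · intro r c hrc
    show (dg δ * (GLFlags.permGL w : GL (Fin n) F).val * dg (δ * ε)⁻¹) r c = 0
    rw [Matrix.mul_diagonal, Matrix.diagonal_mul, GLFlags.permGL_apply, if_neg hrc, mul_zero, zero_mul]
  · intro r c hrc
    show ((b : Matrix (Fin n) (Fin n) F) * dg δ⁻¹) r c = 0
    rw [Matrix.mul_diagonal, (GLFlags.mem_upperTriangularGL_iff b).1 hb r c hrc, zero_mul]
  · intro r c hrc
    show (dg (δ * ε) * (b' : Matrix (Fin n) (Fin n) F)) r c = 0
    rw [Matrix.diagonal_mul, (GLFlags.mem_upperTriangularGL_iff b').1 hb' r c hrc, mul_zero]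
  · refine Subtype.ext ?_
    show (g : Matrix (Fin n) (Fin n) F) = (b : Matrix (Fin n) (Fin n) F) * dg δ⁻¹ *
      (dg δ * (GLFlags.permGL w : GL (Fin n) F).val * dg (δ * ε)⁻¹) * (dg (δ * ε) * (b' : Matrix (Fin n) (Fin n) F))
    have h1 := congrArg Units.val e
    simp only [Units.val_mul] at h1
    have i1 : dg δ⁻¹ * dg δ = 1 := by simpa using hdd δ⁻¹ (inv_ne_zero hδ)
    have i2 : dg (δ * ε)⁻¹ * dg (δ * ε) = 1 := by simpa using hdd (δ * ε)⁻¹ (inv_ne_zero (mul_ne_zero hδ hε))
    refine h1.trans ?_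
    simp only [Matrix.mul_assoc]
    rw [← Matrix.mul_assoc (dg (δ * ε)⁻¹), i2, Matrix.one_mul, ← Matrix.mul_assoc (dg δ⁻¹), i1, Matrix.one_mul]

end Cfsg.Agent.Lib.SLBlocks
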