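import Mathlib
import Cfsg.Agent.Lib.Blocks.DefectCard
import Cfsg.Agent.Lib.Chars.Completeness
import Cfsg.Agent.Lib.Chars.Ops

/-!
Counting the blocks of a group whose blocks of positive defect are determined by the centre.
-/

set_option autoImplicit false
set_option linter.unusedSectionVars false

namespace Cfsg.Agent.Lib.SLBlocks

open Cfsg Cfsg.Agent.Lib.Blocks MonoidAlgebra

variable {G : Type} [Group G] [Finite G] {p : ℕ} [Fact p.Prime] {M : Ideal AlgInt} [M.IsPrime]

theorem single_center_mem {z : G} (hz : z ∈ Subgroup.center G) :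
    (single z 1 : MonoidAlgebra ℂ G) ∈ Subalgebra.center ℂ (MonoidAlgebra ℂ G) := by
  classical
  rw [mem_center_iff]
  intro g h
  simp only [coeff_single, Finsupp.single_apply]
  refine if_congr ⟨fun e => ?_, fun e => ?_⟩ rfl rfl
  · have h1 : g = h⁻¹ * z * h := by rw [e]; group
    rw [h1, Subgroup.mem_center_iff.1 hz h⁻¹, inv_mul_cancel_right]
  · rw [← e, Subgroup.mem_center_iff.1 hz h, mul_inv_cancel_right]

/-- The character of the centre under an irreducible character. -/
noncomputable def centreHom (χ : IrrCharacter G) : Subgroup.center G →* ℂˣ :=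
  MonoidHom.toHomUnits
    { toFun := fun z => (χ : G → ℂ) (z : G) / (χ : G → ℂ) 1
      map_one' := div_self (Chars.irr_apply_one_ne_zero χ)
      map_mul' := fun a b => by
        have h := omega_mul χ (single_center_mem a.2) (single (b : G) (1 : ℂ))
        rw [single_mul_single, one_mul, omega_single, omega_single, omega_single, one_mul, one_mul, one_mul] at h
        rw [Subgroup.coe_mul]
        exact h }

theorem coe_centreHom (χ : IrrCharacter G) (z : Subgroup.center G) :
    ((centreHom χ z : ℂˣ) : ℂ) = (χ : G → ℂ) (z : G) / (χ : G → ℂ) 1 := rfl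

theorem centralChar_center (χ : IrrCharacter G) (z : Subgroup.center G) :
    centralChar (χ : G → ℂ) (z : G) = ((centreHom χ z : ℂˣ) : ℂ) := by
  have : Subgroup.centralizer ({(z : G)} : Set G) = ⊤ := eq_top_iff.2 fun g _ =>
    Subgroup.mem_centralizer_singleton_iff.2 ((Subgroup.mem_center_iff.1 z.2 g))
  rw [centralChar, this, Subgroup.index_top, Nat.cast_one, one_mul, coe_centreHom]

theorem omegaR_center (χ : IrrCharacter G) (z : Subgroup.center G) :
    (omegaR M χ (classSumR M (z : G)) : ℂ) = ((centreHom χ z : ℂˣ) : ℂ) := by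
  rw [omegaR_classSumR, centralChar_center]

/-- Congruent roots of unity of order prime to `p` are equal. -/
theorem eq_one_of_residue (hM : IsPModular p M) {ζ : localRing M} {m : ℕ} (hm : ¬ p ∣ m) (hζ : ζ ^ m = 1)
    (h : residue M ζ = 1) : ζ = 1 := by
  by_contra hne
  have h0 : (ζ - 1) * ∑ i ∈ Finset.range m, ζ ^ i = 0 := by rw [mul_geom_sum, hζ, sub_self]
  have h1 := congrArg (residue M) ((mul_eq_zero.1 h0).resolve_left (sub_ne_zero.2 hne))
  simp only [map_sum, map_pow, h, one_pow, Finset.sum_const, Finset.card_range, nsmul_eq_mul, mul_one, map_zero] at h1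
  have := charP_residue hM
  exact hm ((CharP.cast_eq_zero_iff (Residue M) p m).1 h1)

theorem centreHom_eq_of_omegaBar (hM : IsPModular p M) (hZ : ¬ p ∣ Nat.card (Subgroup.center G))
    {χ : IrrCharacter G} {ψ : Subgroup.center G →* ℂˣ} {χ' : IrrCharacter G} (hψ : centreHom χ' = ψ)
    (h : ∀ z : Subgroup.center G, omegaBar M χ (classSumR M (z : G)) = omegaBar M χ' (classSumR M (z : G))) :
    centreHom χ = ψ := by
  subst hψ
  refine MonoidHom.ext fun z => Units.ext ?_
  set a := omegaR M χ (classSumR M (z : G))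
  set b := omegaR M χ' (classSumR M (z : G))
  have hpow : ∀ (f : Subgroup.center G →* ℂˣ), ((f z : ℂˣ) : ℂ) ^ Nat.card (Subgroup.center G) = 1 := fun f => by
    rw [← Units.val_pow_eq_pow_val, ← map_pow, pow_card_eq_one', map_one, Units.val_one]
  have ha : a ^ Nat.card (Subgroup.center G) = 1 := Subtype.ext (by
    push_cast; rw [show ((a : localRing M) : ℂ) = _ from omegaR_center χ z]; exact hpow _)
  have hb : b ^ Nat.card (Subgroup.center G) = 1 := Subtype.ext (by
    push_cast; rw [show ((b : localRing M) : ℂ) = _ from omegaR_center χ' z]; exact hpow _)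
  have hbu : b * b ^ (Nat.card (Subgroup.center G) - 1) = 1 := by
    rw [← pow_succ', Nat.sub_add_cancel Nat.card_pos, hb]
  have hab : residue M a = residue M b := h z
  have h1 : a * b ^ (Nat.card (Subgroup.center G) - 1) = 1 := eq_one_of_residue hM hZ
    (by rw [mul_pow, ha, one_mul, ← pow_mul, mul_comm, pow_mul, hb, one_pow])
    (by rw [map_mul, hab, ← map_mul, hbu, map_one])
  have : a = b := by
    calc a = a * (b * b ^ (Nat.card (Subgroup.center G) - 1)) := by rw [hbu, mul_one]
      _ = b * (a * b ^ (Nat.card (Subgroup.center G) - 1)) := by ring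
      _ = b := by rw [h1, mul_one]
  rw [← omegaR_center (M := M), ← omegaR_center (M := M)]
  exact congrArg Subtype.val this

/-- Every character of the centre lies under an irreducible character. -/
theorem exists_centreHom_eq (ψ : Subgroup.center G →* ℂˣ) : ∃ χ : IrrCharacter G, centreHom χ = ψ := by
  classical
  cases nonempty_fintype G
  by_contra hno
  push Not at hno
  have horth : ∀ φ : Subgroup.center G →* ℂˣ, φ ≠ 1 → ∑ z, ((φ z : ℂˣ) : ℂ) = 0 := by
    intro φ hφ
    have hne : (Units.coeHom ℂ).comp φ ≠ 1 := fun e => hφ (MonoidHom.ext fun z => Units.ext (by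
      simpa using DFunLike.congr_fun e z))
    exact sum_hom_units_eq_zero _ hne
  have key : ∑ χ : IrrCharacter G, ∑ z : Subgroup.center G,
      ((ψ⁻¹ z : ℂˣ) : ℂ) * ((χ : G → ℂ) 1 * (χ : G → ℂ) (z : G)) = 0 := by
    refine Finset.sum_eq_zero fun χ _ => ?_
    have h1 := horth (centreHom χ * ψ⁻¹) (fun e => hno χ (MonoidHom.ext fun z => by
      have := DFunLike.congr_fun e z
      rwa [MonoidHom.mul_apply, MonoidHom.inv_apply, MonoidHom.one_apply, mul_inv_eq_one] at this))
    calc ∑ z : Subgroup.center G, ((ψ⁻¹ z : ℂˣ) : ℂ) * ((χ : G → ℂ) 1 * (χ : G → ℂ) (z : G))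
        = ((χ : G → ℂ) 1 * (χ : G → ℂ) 1) * ∑ z : Subgroup.center G, (((centreHom χ * ψ⁻¹) z : ℂˣ) : ℂ) := by
          rw [Finset.mul_sum]
          refine Finset.sum_congr rfl fun z _ => ?_
          have := Chars.irr_apply_one_ne_zero χ
          rw [MonoidHom.mul_apply, Units.val_mul, coe_centreHom]
          field_simp
      _ = 0 := by rw [h1, mul_zero]
  rw [Finset.sum_comm] at key
  simp only [← Finset.mul_sum, Chars.sum_degree_mul_irr, OneMemClass.coe_eq_one] at key
  rw [Fintype.sum_eq_single 1 (fun z hz => by rw [if_neg hz, mul_zero]), if_pos rfl] at key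
  simp at key

/-- The number of blocks, when the centre separates the blocks of positive defect. -/
theorem card_blocks (hM : IsPModular p M) (hp : p ∣ Nat.card G) (hZ : ¬ p ∣ Nat.card (Subgroup.center G))
    (hpos : ∀ B B' : Set (IrrCharacter G), IsPBlock M B → IsPBlock M B' → blockDefect p B ≠ 0 → blockDefect p B' ≠ 0 →
      ∀ χ ∈ B, ∀ χ' ∈ B', (∀ z ∈ Subgroup.center G, omegaBar M χ (classSumR M z) = omegaBar M χ' (classSumR M z)) → B = B')
    (hone : Nat.card {B : Set (IrrCharacter G) // IsPBlock M B ∧ blockDefect p B = 0} = 1)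
    (hdz : ∀ B : Set (IrrCharacter G), IsPBlock M B → blockDefect p B = 0 → ∀ χ ∈ B,
      ∀ z ∈ Subgroup.center G, omegaBar M χ (classSumR M z) = 1) :
    Nat.card {B : Set (IrrCharacter G) // IsPBlock M B} = Nat.card (Subgroup.center G) + 1 := by
  classical
  have hneB : ∀ B : {B : Set (IrrCharacter G) // IsPBlock M B}, ∃ χ, χ ∈ B.1 := fun B => isPBlock_nonempty B.2
  choose rep hrep using hneB
  let f : {B : {B : Set (IrrCharacter G) // IsPBlock M B} // ¬ blockDefect p B.1 = 0} → (Subgroup.center G →* ℂˣ) :=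
    fun B => centreHom (rep B.1)
  have hf : Function.Bijective f := by
    constructor
    · intro B B' h
      refine Subtype.ext (Subtype.ext (hpos _ _ B.1.2 B'.1.2 B.2 B'.2 _ (hrep _) _ (hrep _) fun z hz => ?_))
      rw [omegaBar_apply, omegaBar_apply]
      congr 1
      refine Subtype.ext ?_
      rw [omegaR_center _ ⟨z, hz⟩, omegaR_center _ ⟨z, hz⟩]
      exact congrArg (fun g : Subgroup.center G →* ℂˣ => ((g ⟨z, hz⟩ : ℂˣ) : ℂ)) h
    · intro ψ
      have htriv : blockDefect p (blockOf M (Chars.trivialIrr G : G → ℂ)) ≠ 0 := by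
        intro h0
        have h := factorization_degree_add_blockDefect hM (isPBlock_blockOf (M := M) (Chars.trivialIrr G))
          (mem_blockOf_self (Chars.trivialIrr G))
        rw [h0, add_zero, show charDegree (Chars.trivialIrr G : G → ℂ) = 1 by simp [charDegree],
          Nat.factorization_one, Finsupp.zero_apply] at h
        have := (Fact.out : p.Prime).factorization_pos_of_dvd Nat.card_pos.ne' hp
        omega
      obtain ⟨χ, hχ, hd⟩ : ∃ χ : IrrCharacter G, centreHom χ = ψ ∧ blockDefect p (blockOf M (χ : G → ℂ)) ≠ 0 := by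
        by_cases hψ : ψ = 1
        · refine ⟨Chars.trivialIrr G, MonoidHom.ext fun z => Units.ext ?_, htriv⟩
          rw [coe_centreHom, hψ]
          simp
        · obtain ⟨χ, hχ⟩ := exists_centreHom_eq ψ
          refine ⟨χ, hχ, fun h0 => hψ ?_⟩
          have h1 : centreHom (Chars.trivialIrr G) = 1 := MonoidHom.ext fun z => Units.ext (by
            rw [coe_centreHom]; simp)
          rw [← hχ, ← h1]
          refine centreHom_eq_of_omegaBar hM hZ rfl fun z => ?_
          rw [hdz _ (isPBlock_blockOf χ) h0 χ (mem_blockOf_self χ) _ z.2]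
          have : omegaR M (Chars.trivialIrr G) (classSumR M (z : G)) = 1 := Subtype.ext (by
            rw [omegaR_center, coe_centreHom]; simp)
          rw [omegaBar_apply, this, map_one]
      let B : {B : Set (IrrCharacter G) // IsPBlock M B} := ⟨blockOf M (χ : G → ℂ), isPBlock_blockOf χ⟩
      refine ⟨⟨B, hd⟩, centreHom_eq_of_omegaBar hM hZ hχ fun z => ?_⟩
      rw [omegaBar_eq_of_sameBlock (sameBlock_of_mem B.2 (hrep B) (mem_blockOf_self χ))]
  have := Fintype.ofFinite {B : Set (IrrCharacter G) // IsPBlock M B}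
  rw [Nat.card_congr (Equiv.sumCompl fun B : {B : Set (IrrCharacter G) // IsPBlock M B} => blockDefect p B.1 = 0).symm,
    Nat.card_sum, Nat.card_congr (Equiv.ofBijective f hf)]
  let hab : CommGroup (Subgroup.center G) :=
    { (inferInstance : Group (Subgroup.center G)) with mul_comm := fun a b => Subtype.ext (Subgroup.mem_center_iff.1 b.2 a) }
  rw [CommGroup.card_monoidHom_of_hasEnoughRootsOfUnity (Subgroup.center G) ℂ,
    Nat.card_congr (Equiv.subtypeSubtypeEquivSubtypeInter (IsPBlock M) fun B => blockDefect p B = 0), hone, add_comm]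

end Cfsg.Agent.Lib.SLBlocks
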