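import Cfsg.Agent.Lib.SLBlocks.Steinberg

/-!
Every projective simple module of `SL n F` in the defining characteristic is the Steinberg one.
-/

set_option autoImplicit false
set_option linter.unusedSectionVars false

namespace Cfsg.Agent.Lib.SLBlocks

open Matrix

variable {F : Type} [Field F] [Fintype F] {n : ℕ} [NeZero n] {p : ℕ} [Fact p.Prime] [CharP F p]
variable {k : Type} [Field k] [CharP k p] {V : Type} [AddCommGroup V] [Module k V]
variable {ρ : Representation k (SpecialLinearGroup (Fin n) F) V} [Fintype (SpecialLinearGroup (Fin n) F)]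
variable {W : Submodule k V}

theorem isMon_inv {g : SpecialLinearGroup (Fin n) F} {w : Equiv.Perm (Fin n)} (hg : IsMon g w) :
    IsMon g⁻¹ w⁻¹ := by
  intro r c hrc
  obtain ⟨b, rfl⟩ := w.surjective c
  have h := mul_mon_apply (X := g⁻¹) hg r b
  rw [inv_mul_cancel, sl_one, Matrix.one_apply_ne (by simpa using hrc)] at h
  exact (mul_eq_zero.1 h.symm).resolve_right (mon_ne_zero hg b)

theorem isMon_mul {g h : SpecialLinearGroup (Fin n) F} {w w' : Equiv.Perm (Fin n)} (hg : IsMon g w) (hh : IsMon h w') :
    IsMon (g * h) (w * w') := by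
  intro r b hr
  rw [mul_mon_apply hh, hg r _ hr, zero_mul]

theorem diag_commute {d e : SpecialLinearGroup (Fin n) F} (hd : IsMon d 1) (he : IsMon e 1) : d * e = e * d := by
  refine Subtype.ext (Matrix.ext fun r c => ?_)
  have h1 := mon_mul_apply (X := e) hd r c
  have h2 := mul_mon_apply (X := e) hd r c
  simp only [Equiv.Perm.coe_one, id_eq] at h1 h2
  rw [h1, h2]
  rcases eq_or_ne r c with rfl | hrc
  · exact mul_comm _ _
  · rw [he r c hrc, mul_zero, zero_mul]

theorem diag_conj_mem_upper {d u : SpecialLinearGroup (Fin n) F} (hd : IsMon d 1) (hu : u ∈ upper F n) :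
    d * u * d⁻¹ ∈ upper F n := by
  intro r c
  have h : ∀ r c, ((d * u * d⁻¹ : SpecialLinearGroup (Fin n) F) : Matrix (Fin n) (Fin n) F) r c * (d : Matrix (Fin n) (Fin n) F) c c =
      (d : Matrix (Fin n) (Fin n) F) r r * (u : Matrix (Fin n) (Fin n) F) r c := fun r c => mon_conj_apply hd r c
  have hne : ∀ c, (d : Matrix (Fin n) (Fin n) F) c c ≠ 0 := fun c => mon_ne_zero hd c
  refine ⟨fun hlt => ?_, ?_⟩
  · have := h r c
    rw [(hu r c).1 hlt, mul_zero] at this
    exact (mul_eq_zero.1 this).resolve_right (hne c)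
  · have := h r r
    rw [(hu r r).2, mul_one] at this
    exact (mul_eq_right₀ (hne r)).1 this

theorem swap_conj_mem_upper {g u : SpecialLinearGroup (Fin n) F} {i j : Fin n} (hg : IsMon g (Equiv.swap i j))
    (hadj : (j : ℕ) = i + 1) (hu : u ∈ upper F n) (h0 : (u : Matrix (Fin n) (Fin n) F) i j = 0) :
    g * u * g⁻¹ ∈ upper F n := by
  intro r c
  obtain ⟨a, rfl⟩ := (Equiv.swap i j).surjective r
  refine ⟨fun hlt => ?_, ?_⟩
  · obtain ⟨b, rfl⟩ := (Equiv.swap i j).surjective c
    have h := mon_conj_apply (X := u) hg a b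
    have hz : (u : Matrix (Fin n) (Fin n) F) a b = 0 := by
      rcases lt_trichotomy b a with h1 | h1 | h1
      · exact (hu a b).1 h1
      · subst h1; exact absurd hlt (lt_irrefl _)
      · have : a = i ∧ b = j := by
          rw [Equiv.swap_apply_def, Equiv.swap_apply_def] at hlt
          simp only [Fin.ext_iff, Fin.lt_def] at *
          split_ifs at hlt <;> omega
        rw [this.1, this.2, h0]
    rw [hz, mul_zero] at h
    exact (mul_eq_zero.1 h).resolve_right (mon_ne_zero hg b)
  · have h := mon_conj_apply (X := u) hg a a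
    rw [(hu a a).2, mul_one] at h
    exact mul_eq_right₀ (mon_ne_zero hg a) |>.1 h

theorem pow_card_sub_one_of_diag {d : SpecialLinearGroup (Fin n) F} (hd : IsMon d 1) :
    d ^ (Fintype.card F - 1) = 1 := by
  refine Subtype.ext ?_
  rw [sl_pow, sl_one, show (d : Matrix (Fin n) (Fin n) F) = Matrix.diagonal fun r => (d : Matrix (Fin n) (Fin n) F) r r from
    Matrix.ext fun r c => by
      rcases eq_or_ne r c with rfl | hrc
      · rw [Matrix.diagonal_apply_eq]
      · rw [hd r c hrc, Matrix.diagonal_apply_ne _ hrc], Matrix.diagonal_pow, ← Matrix.diagonal_one]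
  congr 1
  funext r
  exact FiniteField.pow_card_sub_one_eq_one _ (mon_ne_zero hd r)

theorem coset_bijective {G : Type} [Group G] (P : Subgroup G) :
    Function.Bijective fun x : (G ⧸ P) × P => x.1.out * (x.2 : G) := by
  constructor
  · rintro ⟨r, u⟩ ⟨r', u'⟩ h
    simp only at h
    have hr : r = r' := by
      have := congrArg (fun g : G => (QuotientGroup.mk g : G ⧸ P)) h
      simpa [QuotientGroup.mk_mul_of_mem _ u.2, QuotientGroup.mk_mul_of_mem _ u'.2] using this
    subst hr
    exact Prod.ext rfl (Subtype.ext (mul_left_cancel h))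
  · intro g
    exact ⟨⟨QuotientGroup.mk g, ⟨(QuotientGroup.mk g : G ⧸ P).out⁻¹ * g, QuotientGroup.eq.1 (QuotientGroup.out_eq' _)⟩⟩,
      mul_inv_cancel_left _ _⟩

/-- The sum over a subgroup of the translates of a vector. -/
noncomputable def trSum (ρ : Representation k (SpecialLinearGroup (Fin n) F) V) (P : Subgroup (SpecialLinearGroup (Fin n) F)) :
    V →ₗ[k] V :=
  haveI := Fintype.ofFinite P
  ∑ u : P, ρ (u : SpecialLinearGroup (Fin n) F)

theorem trSum_apply (P : Subgroup (SpecialLinearGroup (Fin n) F)) [Fintype P] (x : V) :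
    trSum ρ P x = ∑ u : P, ρ (u : SpecialLinearGroup (Fin n) F) x := by
  rw [trSum, LinearMap.sum_apply]
  congr 1
  convert rfl

theorem trSum_translate (P : Subgroup (SpecialLinearGroup (Fin n) F)) (u : P) (x : V) :
    trSum ρ P (ρ (u : SpecialLinearGroup (Fin n) F) x) = trSum ρ P x := by
  have := Fintype.ofFinite P
  rw [trSum_apply, trSum_apply]
  refine Eq.trans ?_ (Equiv.sum_comp (Equiv.mulRight u) _)
  refine Finset.sum_congr rfl fun v _ => ?_
  rw [Equiv.coe_mulRight, Subgroup.coe_mul, rho_mul]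

/-- A fixed vector is a trace. -/
theorem exists_trace (hW : ProjSimple ρ W) (P : Subgroup (SpecialLinearGroup (Fin n) F)) {w : V} (hw : w ∈ W)
    (hfix : ∀ u ∈ P, ρ u w = w) : ∃ z ∈ W, w = trSum ρ P z := by
  classical
  obtain ⟨φ, hφ, hsum⟩ := hW.proj
  have := Fintype.ofFinite P
  have := Fintype.ofFinite (SpecialLinearGroup (Fin n) F ⧸ P)
  refine ⟨∑ r : SpecialLinearGroup (Fin n) F ⧸ P, ρ r.out⁻¹ (φ (ρ r.out w)),
    W.sum_mem fun r _ => hW.stable _ _ (hφ _ (hW.stable _ _ hw)), ?_⟩
  have hbij := coset_bijective P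
  conv_lhs => rw [hsum w hw]
  rw [← Fintype.sum_bijective _ hbij _ _ (fun x => rfl), trSum_apply, Fintype.sum_prod_type, Finset.sum_comm,
    ← Equiv.sum_comp (Equiv.inv P)]
  refine Finset.sum_congr rfl fun u _ => ?_
  rw [map_sum]
  refine Finset.sum_congr rfl fun r _ => ?_
  rw [Equiv.inv_apply, Subgroup.coe_inv, _root_.mul_inv_rev, inv_inv, rho_mul, rho_mul, hfix _ (P.inv_mem u.2)]

/-- The span of the translates of a non-zero vector. -/
theorem span_eq (hW : ProjSimple ρ W) {v : V} (hv : v ∈ W) (hv0 : v ≠ 0) :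
    W = Submodule.span k (Set.range fun g => ρ g v) := by
  refine (hW.simple _ (Submodule.span_le.2 ?_) ?_ ?_).symm
  · rintro _ ⟨g, rfl⟩; exact hW.stable g v hv
  · intro g w hw
    induction hw using Submodule.span_induction with
    | mem x hx => obtain ⟨h, rfl⟩ := hx; exact Submodule.subset_span ⟨g * h, rho_mul ρ g h v⟩
    | zero => simp
    | add x y _ _ hx hy => rw [map_add]; exact Submodule.add_mem _ hx hy
    | smul c x _ hx => rw [map_smul]; exact Submodule.smul_mem _ c hx
  · intro h
    refine hv0 ?_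
    rw [← Submodule.mem_bot k, ← h]
    exact Submodule.subset_span ⟨1, by simp⟩

theorem exists_fixed_sl (hW : ProjSimple ρ W) {P : Subgroup (SpecialLinearGroup (Fin n) F)} (hP : IsPGroup p P) :
    ∃ w ∈ W, w ≠ 0 ∧ ∀ u ∈ P, ρ u w = w := by
  obtain ⟨v, hv, hv0⟩ := W.ne_bot_iff.1 hW.ne_bot
  obtain ⟨w, hw, hw0, hf⟩ := exists_fixed (p := p) hP (ρ.comp P.subtype) W (fun u => hW.stable u) hv hv0
  exact ⟨w, hw, hw0, fun u hu => hf ⟨u, hu⟩⟩

/-- A fixed vector of the unipotent group which is an eigenvector of the torus. -/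
theorem exists_eigen_fixed (p : ℕ) [Fact p.Prime] [CharP F p] [CharP k p] (hW : ProjSimple ρ W)
    (hroots : ∃ l : List k, (l.map fun a => Polynomial.X - Polynomial.C a).prod =
      Polynomial.X ^ (Fintype.card F - 1) - 1) :
    ∃ v ∈ W, v ≠ 0 ∧ (∀ u ∈ upper F n, ρ u v = v) ∧ ∀ d, IsMon d 1 → ∃ a : k, ρ d v = a • v := by
  classical
  obtain ⟨l, hl⟩ := hroots
  suffices ∀ S : Finset (SpecialLinearGroup (Fin n) F), (∀ d ∈ S, IsMon d 1) →
      ∃ v ∈ W, v ≠ 0 ∧ (∀ u ∈ upper F n, ρ u v = v) ∧ ∀ d ∈ S, ∃ a : k, ρ d v = a • v by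
    obtain ⟨v, h1, h2, h3, h4⟩ := this (Finset.univ.filter fun d => IsMon d 1) (fun d hd => (Finset.mem_filter.1 hd).2)
    exact ⟨v, h1, h2, h3, fun d hd => h4 d (Finset.mem_filter.2 ⟨Finset.mem_univ _, hd⟩)⟩
  intro S
  induction S using Finset.induction_on with
  | empty =>
    intro _
    obtain ⟨w, hw, hw0, hf⟩ := exists_fixed_sl hW (isPGroup_upper (F := F) (n := n) p)
    exact ⟨w, hw, hw0, hf, by simp⟩
  | insert d S hdS ih =>
    intro hS
    obtain ⟨v, hv, hv0, hvU, hvS⟩ := ih fun e he => hS e (Finset.mem_insert_of_mem he)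
    choose! a ha using hvS
    have hd : IsMon d 1 := hS d (Finset.mem_insert_self _ _)
    let W' : Submodule k V :=
      { carrier := {w | w ∈ W ∧ (∀ u ∈ upper F n, ρ u w = w) ∧ ∀ e ∈ S, ρ e w = a e • w}
        zero_mem' := ⟨W.zero_mem, fun u _ => map_zero _, fun e _ => by simp⟩
        add_mem' := fun {x y} hx hy => ⟨W.add_mem hx.1 hy.1, fun u hu => by rw [map_add, hx.2.1 u hu, hy.2.1 u hu],
          fun e he => by rw [map_add, hx.2.2 e he, hy.2.2 e he, smul_add]⟩
        smul_mem' := fun c {x} hx => ⟨W.smul_mem c hx.1, fun u hu => by rw [map_smul, hx.2.1 u hu],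
          fun e he => by rw [map_smul, hx.2.2 e he, smul_comm]⟩ }
    have hinv : ∀ w ∈ W', ρ d w ∈ W' := by
      rintro w ⟨h1, h2, h3⟩
      refine ⟨hW.stable d w h1, fun u hu => ?_, fun e he => ?_⟩
      · rw [← rho_mul, show u * d = d * (d⁻¹ * u * d⁻¹⁻¹) by group, rho_mul,
          h2 _ (diag_conj_mem_upper (by simpa using isMon_inv hd) hu)]
      · rw [← rho_mul, diag_commute (hS e (Finset.mem_insert_of_mem he)) hd, rho_mul, h3 e he, map_smul]
    have hkill : Polynomial.aeval (ρ d) (l.map fun a => Polynomial.X - Polynomial.C a).prod v = 0 := by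
      rw [hl, map_sub, map_pow, Polynomial.aeval_X, map_one, ← map_pow, pow_card_sub_one_of_diag hd, map_one, sub_self,
        LinearMap.zero_apply]
    obtain ⟨w, b, hw, hw0, hwb⟩ := exists_eigen (ρ d) W' hinv l v ⟨hv, hvU, fun e he => ha e he⟩ hv0 hkill
    refine ⟨w, hw.1, hw0, hw.2.1, fun e he => ?_⟩
    rcases Finset.mem_insert.1 he with rfl | he
    · exact ⟨b, hwb⟩
    · exact ⟨a e, hw.2.2 e he⟩

/-- A vector fixed by a non-trivial element of a `p`-group has trace zero. -/
theorem trSum_eq_zero {P : Subgroup (SpecialLinearGroup (Fin n) F)} {u : SpecialLinearGroup (Fin n) F} (hu : u ∈ P)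
    (hu1 : u ≠ 1) (hup : u ^ p = 1) {x : V} (hx : ρ u x = x) : trSum ρ P x = 0 := by
  classical
  have := Fintype.ofFinite P
  rw [trSum_apply]
  let u' : P := ⟨u, hu⟩
  let Q : Subgroup P := Subgroup.zpowers u'
  have := Fintype.ofFinite (P ⧸ Q)
  have := Fintype.ofFinite Q
  have hQ : ∀ z : Q, ρ ((z : P) : SpecialLinearGroup (Fin n) F) x = x := by
    rintro ⟨z, hz⟩
    obtain ⟨m, hm⟩ := (isOfFinOrder_of_finite u').mem_powers_iff_mem_zpowers.2 hz
    simp only at hm
    show ρ (z : SpecialLinearGroup (Fin n) F) x = x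
    rw [← hm]
    clear hm
    induction m with
    | zero => simp
    | succ m ih => rw [pow_succ', Subgroup.coe_mul, rho_mul, ih, hx]
  rw [← Fintype.sum_bijective _ (coset_bijective Q) _ _ (fun _ => rfl), Fintype.sum_prod_type]
  refine Finset.sum_eq_zero fun r _ => ?_
  have hc : ∀ z : Q, ρ ((r.out * (z : P) : P) : SpecialLinearGroup (Fin n) F) x =
      ρ ((r.out : P) : SpecialLinearGroup (Fin n) F) x := by
    intro z
    rw [Subgroup.coe_mul, rho_mul, hQ]
  rw [Finset.sum_congr rfl fun z _ => hc z, Finset.sum_const, Finset.card_univ, Fintype.card_eq_nat_card,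
    show Nat.card Q = p by
      rw [Nat.card_zpowers, ← Subgroup.orderOf_coe]; exact orderOf_eq_prime hup hu1,
    ← Nat.cast_smul_eq_nsmul k, CharP.cast_eq_zero, zero_smul]

/-- The fixed vectors of the unipotent group form a line. -/
theorem exists_line (p : ℕ) [Fact p.Prime] [CharP F p] [CharP k p] (hW : ProjSimple ρ W) {v : V} (hv : v ∈ W) (hv0 : v ≠ 0) (hU : ∀ u ∈ upper F n, ρ u v = v)
    (hT : ∀ d, IsMon d 1 → ∃ a : k, ρ d v = a • v) :
    ∀ x ∈ W, (∀ u ∈ upper F n, ρ u x = x) → ∃ c : k, x = c • v := by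
  classical
  have hB : ∀ b : SpecialLinearGroup (Fin n) F, (∀ r c, c < r → (b : Matrix (Fin n) (Fin n) F) r c = 0) →
      ∃ u ∈ upper F n, ∃ d, IsMon d 1 ∧ b = u * d := by
    intro b hb
    have hdet : (∏ r, (b : Matrix (Fin n) (Fin n) F) r r) = 1 := by
      rw [← Matrix.det_of_isUpperTriangular (fun r c h => hb r c h)]; exact b.2
    let d : SpecialLinearGroup (Fin n) F := ⟨Matrix.diagonal fun r => (b : Matrix (Fin n) (Fin n) F) r r, by
      rw [Matrix.det_diagonal]; exact hdet⟩
    have hd : IsMon d 1 := fun r c h => Matrix.diagonal_apply_ne _ h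
    refine ⟨b * d⁻¹, fun r c => ?_, d, hd, (inv_mul_cancel_right b d).symm⟩
    have h := fun r c => mul_mon_apply (X := b * d⁻¹) hd r c
    simp only [inv_mul_cancel_right, Equiv.Perm.coe_one, id_eq] at h
    refine ⟨fun hlt => ?_, ?_⟩
    · exact (mul_eq_zero.1 ((h r c).symm.trans (hb r c hlt))).resolve_right (mon_ne_zero hd c)
    · refine (mul_eq_right₀ (mon_ne_zero hd r)).1 ((h r r).symm.trans ?_)
      exact (Matrix.diagonal_apply_eq (fun r => (b : Matrix (Fin n) (Fin n) F) r r) r).symm
  let M : Set V := {x | ∃ (w : Equiv.Perm (Fin n)) (m : SpecialLinearGroup (Fin n) F), IsMon m w ∧ x = trSum ρ (upper F n) (ρ m v)}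
  have hspan : ∀ z ∈ W, trSum ρ (upper F n) z ∈ Submodule.span k M := by
    intro z hz
    rw [span_eq hW hv hv0] at hz
    induction hz using Submodule.span_induction with
    | mem x hx =>
      obtain ⟨g, rfl⟩ := hx
      obtain ⟨w, b, m, b', hm, hb, hb', rfl⟩ := exists_bruhat_SL g
      obtain ⟨u, hu, d, hd, rfl⟩ := hB b hb
      obtain ⟨u', hu', d', hd', rfl⟩ := hB b' hb'
      obtain ⟨a, ha⟩ := hT d' hd'
      simp only [rho_mul, ha, map_smul, hU u' hu', trSum_translate (upper F n) ⟨u, hu⟩]
      refine Submodule.smul_mem _ _ (Submodule.subset_span ⟨w, d * m, by simpa using isMon_mul hd hm, ?_⟩)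
      rw [rho_mul]
    | zero => simp
    | add x y _ _ hx hy => rw [map_add]; exact Submodule.add_mem _ hx hy
    | smul c x _ hx => rw [map_smul]; exact Submodule.smul_mem _ c hx
  obtain ⟨y, hy⟩ : ∃ y, Submodule.span k M ≤ k ∙ y := by
    have hzero : ∀ (w : Equiv.Perm (Fin n)) (m : SpecialLinearGroup (Fin n) F), IsMon m w →
        (∃ a b, a < b ∧ w a < w b) → trSum ρ (upper F n) (ρ m v) = 0 := by
      rintro w m hm ⟨a, b, hab, hwab⟩
      have hb' := mon_mul_transvection hm hab.ne
        ((m : Matrix (Fin n) (Fin n) F) (w b) b / (m : Matrix (Fin n) (Fin n) F) (w a) a)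
      rw [show (m : Matrix (Fin n) (Fin n) F) (w a) a * ((m : Matrix (Fin n) (Fin n) F) (w b) b / (m : Matrix (Fin n) (Fin n) F) (w a) a) /
          (m : Matrix (Fin n) (Fin n) F) (w b) b = 1 by
        have := mon_ne_zero hm a
        have := mon_ne_zero hm b
        field_simp] at hb'
      refine trSum_eq_zero (p := p) (u := SpecialLinearGroup.transvection hwab.ne 1) (transvection_mem_upper hwab 1) ?_ ?_ ?_
      · intro h
        have := congrArg (fun g : SpecialLinearGroup (Fin n) F => (g : Matrix (Fin n) (Fin n) F) (w a) (w b)) h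
        simp [Cfsg.Agent.Lib.LinGroup.coe_transvection, Matrix.transvection, Matrix.one_apply_ne hwab.ne] at this
      · have hk : ∀ i : ℕ, SpecialLinearGroup.transvection hwab.ne (1 : F) ^ i = SpecialLinearGroup.transvection hwab.ne (i : F) := by
          intro i
          induction i with
          | zero => simp
          | succ i ih => rw [pow_succ, ih, ← SpecialLinearGroup.transvection_add, Nat.cast_succ]
        rw [hk, CharP.cast_eq_zero, SpecialLinearGroup.transvection_coeff_zero]
      · rw [← rho_mul, ← hb', rho_mul, hU _ (transvection_mem_upper hab _)]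
    by_cases hex : ∃ (w : Equiv.Perm (Fin n)) (m : SpecialLinearGroup (Fin n) F), IsMon m w ∧ ¬ ∃ a b, a < b ∧ w a < w b
    · obtain ⟨w0, m0, hm0, hw0⟩ := hex
      refine ⟨trSum ρ (upper F n) (ρ m0 v), Submodule.span_le.2 ?_⟩
      rintro x ⟨w, m, hm, rfl⟩
      by_cases hw : ∃ a b, a < b ∧ w a < w b
      · rw [hzero w m hm hw]; exact Submodule.zero_mem _
      · have hww : w = w0 := by
          push Not at hw hw0
          have anti : ∀ f : Equiv.Perm (Fin n), (∀ a b, a < b → f b ≤ f a) → f.trans Fin.revPerm = 1 := fun f hf => by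
            have hmono : StrictMono (f.trans Fin.revPerm) := fun a b hab => by
              simp only [Equiv.trans_apply, Fin.revPerm_apply, Fin.rev_lt_rev]
              exact lt_of_le_of_ne (hf a b hab) fun e => hab.ne (f.injective e).symm
            exact Equiv.ext fun a => congrFun ((hmono.range_inj strictMono_id).1 (by simp)) a
          have := (anti w hw).trans (anti w0 hw0).symm
          exact Equiv.ext fun a => Fin.rev_injective (by simpa using congrArg (fun f : Equiv.Perm (Fin n) => f a) this)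
        subst hww
        have hd : IsMon (m0⁻¹ * m) 1 := by simpa using isMon_mul (isMon_inv hm0) hm
        obtain ⟨a, ha⟩ := hT _ hd
        rw [SetLike.mem_coe, show m = m0 * (m0⁻¹ * m) by group, rho_mul, ha, map_smul, map_smul]
        exact Submodule.smul_mem _ _ (Submodule.mem_span_singleton_self _)
    · refine ⟨0, Submodule.span_le.2 ?_⟩
      rintro x ⟨w, m, hm, rfl⟩
      rw [hzero w m hm (not_not.1 fun h => hex ⟨w, m, hm, h⟩)]
      exact Submodule.zero_mem _
  have hline : ∀ x ∈ W, (∀ u ∈ upper F n, ρ u x = x) → ∃ c : k, c • y = x := by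
    intro x hx hfix
    obtain ⟨z, hz, rfl⟩ := exists_trace hW (upper F n) hx hfix
    exact Submodule.mem_span_singleton.1 (hy (hspan z hz))
  intro x hx hfix
  obtain ⟨c, rfl⟩ := hline x hx hfix
  obtain ⟨c0, hc0⟩ := hline v hv hU
  have : c0 ≠ 0 := fun h => hv0 (by rw [← hc0, h, zero_smul])
  exact ⟨c * c0⁻¹, by rw [← hc0, smul_smul, inv_mul_cancel_right₀ this]⟩

/-- The Steinberg vector. -/
structure IsSteinberg (v : V) : Prop where
  ne_zero : v ≠ 0
  upper_fix : ∀ u ∈ upper F n, ρ u v = v
  torus_fix : ∀ d, IsMon d 1 → ρ d v = v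
  hecke : ∀ (i j : Fin n) (hij : i ≠ j), (j : ℕ) = i + 1 →
    ∑ t : F, ρ (SpecialLinearGroup.transvection hij t * nE hij) v = -v
  free : ∀ (ι : Type) [Fintype ι] (e : ι → lower F n), Function.Injective e → ∀ g : ι → k,
    ∑ i, g i • ρ (e i : SpecialLinearGroup (Fin n) F) v = 0 → g = 0

/-- A projective simple module is the span of a Steinberg vector. -/
theorem exists_steinberg (p : ℕ) [Fact p.Prime] [CharP F p] [CharP k p] (hW : ProjSimple ρ W)
    (hroots : ∃ l : List k, (l.map fun a => Polynomial.X - Polynomial.C a).prod =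
      Polynomial.X ^ (Fintype.card F - 1) - 1) :
    ∃ v ∈ W, IsSteinberg (ρ := ρ) v ∧ W = lowerSpan ρ v := by
  classical
  obtain ⟨v, hv, hv0, hU, hT⟩ := exists_eigen_fixed (p := p) hW hroots
  have hline := exists_line (p := p) hW hv hv0 hU hT
  have hhigh : IsHighest ρ v := by
    refine ⟨hU, hT, fun i j hij hadj => hline _ (W.sum_mem fun t _ => hW.stable _ _ hv) fun u hu => ?_⟩
    have hlt : i < j := Fin.lt_def.2 (by omega)
    rw [map_sum]
    set s := (u : Matrix (Fin n) (Fin n) F) i j
    refine Fintype.sum_bijective (fun t => s + t) (AddGroup.addLeft_bijective s) _ _ fun t => ?_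
    rw [← rho_mul, ← mul_assoc]
    set u'' := SpecialLinearGroup.transvection hij (-(s + t)) * (u * SpecialLinearGroup.transvection hij t) with hu''
    have h1 := mul_mem hu (transvection_mem_upper hlt t)
    have hu''U : u'' ∈ upper F n := mul_mem (transvection_mem_upper hlt _) h1
    have hxs : ∀ x : F, (SpecialLinearGroup.transvection hij x : SpecialLinearGroup (Fin n) F).1 i j = x := fun x => by
      simp [Cfsg.Agent.Lib.LinGroup.coe_transvection, Matrix.transvection, Matrix.one_apply_ne hij]
    have h0 : (u'' : Matrix (Fin n) (Fin n) F) i j = 0 := by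
      rw [hu'', upper_mul_apply_adjacent (transvection_mem_upper hlt _) h1 hadj,
        upper_mul_apply_adjacent hu (transvection_mem_upper hlt _) hadj, hxs, hxs]
      exact neg_add_cancel _
    have hn : IsMon (nE (F := F) hij)⁻¹ (Equiv.swap i j) := by
      simpa [Equiv.swap_inv] using isMon_inv (isMon_nE (F := F) hij)
    have hfix := hU _ (swap_conj_mem_upper hn hadj hu''U h0)
    have hu2 : u * SpecialLinearGroup.transvection hij t = SpecialLinearGroup.transvection hij (s + t) * u'' := by
      rw [hu'', ← mul_assoc (SpecialLinearGroup.transvection hij (s + t)), ← SpecialLinearGroup.transvection_add, add_neg_cancel,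
        SpecialLinearGroup.transvection_coeff_zero, one_mul]
    rw [hu2, show SpecialLinearGroup.transvection hij (s + t) * u'' * nE hij =
      SpecialLinearGroup.transvection hij (s + t) * nE hij * ((nE hij)⁻¹ * u'' * (nE hij)⁻¹⁻¹) by group, rho_mul, hfix]
  have hWeq : lowerSpan ρ v = W := by
    refine hW.simple _ (Submodule.span_le.2 ?_) (lowerSpan_stable ρ v hhigh) ?_
    · rintro _ ⟨u, rfl⟩; exact hW.stable _ _ hv
    · intro h
      exact hv0 ((Submodule.mem_bot k).1 (h ▸ mem_lowerSpan_self ρ v))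
  have := Fintype.ofFinite (lower F n)
  have hY : trSum ρ (lower F n) v ≠ 0 := by
    intro h
    obtain ⟨x, hx, hx0, hfix⟩ := exists_fixed_sl hW (isPGroup_lower (F := F) (n := n) p)
    obtain ⟨z, hz, rfl⟩ := exists_trace hW (lower F n) hx hfix
    refine hx0 ?_
    rw [← hWeq] at hz
    clear hx hx0 hfix
    induction hz using Submodule.span_induction with
    | mem y hy => obtain ⟨u, rfl⟩ := hy; rw [trSum_translate, h]
    | zero => simp
    | add a b _ _ ha hb => rw [map_add, ha, hb, add_zero]
    | smul c a _ ha => rw [map_smul, ha, smul_zero]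
  have hfree0 : ∀ c : lower F n → k, ∑ u, c u • ρ (u : SpecialLinearGroup (Fin n) F) v = 0 → c = 0 := by
    intro c hc
    by_contra hc0
    let S : Submodule k (lower F n → k) := LinearMap.ker
      ({ toFun := fun c => ∑ u, c u • ρ (u : SpecialLinearGroup (Fin n) F) v
         map_add' := fun a b => by simp only [Pi.add_apply, add_smul, Finset.sum_add_distrib]
         map_smul' := fun a b => by simp only [Pi.smul_apply, smul_eq_mul, mul_smul, Finset.smul_sum, RingHom.id_apply] } :
        (lower F n → k) →ₗ[k] V)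
    let σ : Representation k (lower F n) (lower F n → k) :=
      { toFun := fun u => LinearMap.funLeft k k fun x => u⁻¹ * x
        map_one' := LinearMap.ext fun c => funext fun x => by simp
        map_mul' := fun a b => LinearMap.ext fun c => funext fun x => by simp [mul_assoc] }
    obtain ⟨f, hf, hf0, hfix⟩ := exists_fixed (p := p) (isPGroup_lower (F := F) (n := n) p) σ S (fun u c hc => by
      rw [LinearMap.mem_ker] at hc ⊢
      show ∑ x, c (u⁻¹ * x) • ρ (x : SpecialLinearGroup (Fin n) F) v = 0
      rw [← Equiv.sum_comp (Equiv.mulLeft u)]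
      have := congrArg (ρ (u : SpecialLinearGroup (Fin n) F)) (show ∑ x, c x • ρ (x : SpecialLinearGroup (Fin n) F) v = 0 from hc)
      rw [map_sum, map_zero] at this
      refine Eq.trans (Finset.sum_congr rfl fun x _ => ?_) this
      rw [Equiv.coe_mulLeft, inv_mul_cancel_left, Subgroup.coe_mul, rho_mul, map_smul]) (LinearMap.mem_ker.2 hc) hc0
    have hconst : ∀ x, f x = f 1 := fun x => by
      have := congrFun (hfix x) x
      simpa [σ] using this.symm
    have h1 : f 1 • trSum ρ (lower F n) v = 0 := by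
      rw [trSum_apply, Finset.smul_sum]
      refine Eq.trans (Finset.sum_congr rfl fun x _ => ?_) (LinearMap.mem_ker.1 hf)
      rw [hconst x]
    exact hf0 (funext fun x => by rw [hconst x]; exact (smul_eq_zero.1 h1).resolve_right hY)
  have hfree : ∀ (ι : Type) [Fintype ι] (e : ι → lower F n), Function.Injective e → ∀ g : ι → k,
      ∑ i, g i • ρ (e i : SpecialLinearGroup (Fin n) F) v = 0 → g = 0 := by
    intro ι _ e he g hg
    have := hfree0 (Function.extend e g 0) (by
      refine Eq.trans (Fintype.sum_of_injective e he _ _ (fun u hu => ?_) fun i => ?_).symm hg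
      · rw [Function.extend_apply' _ _ _ fun ⟨i, hi⟩ => hu ⟨i, hi⟩, Pi.zero_apply, zero_smul]
      · rw [he.extend_apply])
    funext i
    have := congrFun this (e i)
    rwa [he.extend_apply] at this
  have hrank : ∀ (i j : Fin n) (hij : i ≠ j), (j : ℕ) = i + 1 →
      (∀ (a : F) (ha : a ≠ 0), ρ (SpecialLinearGroup.diag2n hij a ha) v = v) ∧
        ∑ t : F, ρ (SpecialLinearGroup.transvection hij t * nE hij) v = -v := by
    intro i j hij hadj
    have hlt : i < j := Fin.lt_def.2 (by omega)
    obtain ⟨μ, hμ⟩ := hhigh.2.2 i j hij hadj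
    choose! a ha using hT
    let α : F → k := fun t => if ht : t = 0 then 0 else a (SpecialLinearGroup.diag2n hij (-t) (neg_ne_zero.2 ht))
    have hα : ∀ t : F, t ≠ 0 → ρ (SpecialLinearGroup.transvection hij t * nE hij) v =
        α t • ρ (SpecialLinearGroup.transvection hij.symm t⁻¹) v := by
      intro t ht
      rw [transvection_mul_nE hij ht, rho_mul, hU _ (transvection_mem_upper hlt _), rho_mul,
        ha _ (isMon_diag2n hij _ (neg_ne_zero.2 ht)), map_smul]
      simp [α, ht]
    let f : F → k := fun s => if s = 0 then μ else -α s⁻¹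
    have hn : ρ (nE hij) v = ∑ s, f s • ρ (SpecialLinearGroup.transvection hij.symm s) v := by
      rw [← Finset.add_sum_erase _ _ (Finset.mem_univ (0 : F)), SpecialLinearGroup.transvection_coeff_zero, one_mul] at hμ
      rw [← Finset.add_sum_erase _ _ (Finset.mem_univ (0 : F)), SpecialLinearGroup.transvection_coeff_zero, map_one,
        Module.End.one_apply, eq_sub_of_add_eq hμ, sub_eq_add_neg, show f 0 = μ from if_pos rfl, ← Finset.sum_neg_distrib]
      congr 1
      refine Finset.sum_nbij' (fun t => t⁻¹) (fun t => t⁻¹) (fun t h => by simpa using h) (fun t h => by simpa using h)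
        (fun t _ => inv_inv t) (fun t _ => inv_inv t) fun t h => ?_
      have ht : t ≠ 0 := Finset.ne_of_mem_erase h
      rw [hα t ht, show f t⁻¹ = -α t by simp [f, ht], neg_smul]
    have hfx : ∀ r : F, ρ (SpecialLinearGroup.transvection hij.symm r) (ρ (nE hij) v) = ρ (nE hij) v := by
      intro r
      have hr := mon_mul_transvection (isMon_nE (F := F) hij) hij
        (r * (nE (F := F) hij).1 i j / (nE (F := F) hij).1 j i)
      simp only [Equiv.swap_apply_left, Equiv.swap_apply_right] at hr
      have h1 := mon_ne_zero (isMon_nE (F := F) hij) i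
      have h2 := mon_ne_zero (isMon_nE (F := F) hij) j
      simp only [Equiv.swap_apply_left, Equiv.swap_apply_right] at h1 h2
      rw [show (nE (F := F) hij).1 j i * (r * (nE (F := F) hij).1 i j / (nE (F := F) hij).1 j i) / (nE (F := F) hij).1 i j = r by
        field_simp] at hr
      rw [← rho_mul, ← hr, rho_mul, hU _ (transvection_mem_upper hlt _)]
    let e : F → lower F n := fun s => ⟨_, transvection_mem_lower hlt s⟩
    have he : Function.Injective e := fun s s' h => by
      have := congrArg (fun g : lower F n => (g : SpecialLinearGroup (Fin n) F).1 j i) h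
      simpa [e, Cfsg.Agent.Lib.LinGroup.coe_transvection, Matrix.transvection] using this
    have hf : ∀ s, f s = μ := by
      intro r
      have h0 := hfree F e he (fun s => f (s - r) - f s) (by
        simp only [sub_smul, Finset.sum_sub_distrib, e]
        rw [← hn, ← Equiv.sum_comp (Equiv.addLeft r), sub_eq_zero]
        simp only [Equiv.coe_addLeft, add_sub_cancel_left]
        rw [← hfx r, hn, map_sum]
        refine Finset.sum_congr rfl fun s _ => ?_
        rw [map_smul, ← rho_mul, ← SpecialLinearGroup.transvection_add])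
      have := sub_eq_zero.1 (congrFun h0 r)
      rw [sub_self, show f 0 = μ from if_pos rfl] at this
      exact this.symm
    have hαμ : ∀ t : F, t ≠ 0 → α t = -μ := fun t ht => by
      have := hf t⁻¹
      simp only [f, inv_eq_zero, ht, if_false, inv_inv] at this
      rw [← this, neg_neg]
    have h1 : α (-1) = 1 := by
      have h := ha _ (isMon_diag2n hij (-(-1 : F)) (neg_ne_zero.2 (by simp)))
      rw [diag2n_neg_one hij, map_one, Module.End.one_apply] at h
      have h2 : (1 : k) • v = a 1 • v := by rw [one_smul]; exact h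
      simp only [α, neg_eq_zero, one_ne_zero, dite_false]
      rw [diag2n_neg_one hij]
      exact (smul_left_injective k hv0 h2).symm
    have hμ1 : μ = -1 := by
      rw [← h1, hαμ (-1) (by simp), neg_neg]
    refine ⟨fun x hx => ?_, by rw [hμ, hμ1, neg_one_smul]⟩
    have h := hαμ (-x) (neg_ne_zero.2 hx)
    rw [hμ1, neg_neg] at h
    simp only [α, neg_eq_zero, hx, dite_false, neg_neg] at h
    rw [ha _ (isMon_diag2n hij x hx), h, one_smul]
  refine ⟨v, hv, ⟨hv0, hU, fun d hd => ?_, fun i j hij hadj => (hrank i j hij hadj).2, hfree⟩, hWeq.symm⟩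
  exact diag_induction (fun d => ρ d v = v) (by simp) (fun a b ha hb => by rw [rho_mul, hb, ha])
    (fun i j hij a ha hadj => (hrank i j hij hadj).1 a ha) hd

end Cfsg.Agent.Lib.SLBlocks
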