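import Mathlib
import Cfsg.Agent.Lib.Blocks.DefectProps
import Cfsg.Agent.Lib.Blocks.OneBlock

/-!
Blocks of positive defect of `SL n F` in the defining characteristic are determined by the centre.
-/

set_option autoImplicit false
set_option linter.unusedSectionVars false

namespace Cfsg.Agent.Lib.SLBlocks

open Cfsg Cfsg.Agent.Lib.Blocks MonoidAlgebra

variable {F : Type} [Field F] [Fintype F] {n : ℕ} [NeZero n]


/-- The linear map of an element. -/
noncomputable def lin : (Matrix.SpecialLinearGroup (Fin n) F) →* (Module.End F (Fin n → F)) where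
  toFun g := Matrix.toLinAlgEquiv' (g : Matrix (Fin n) (Fin n) F)
  map_one' := by simp
  map_mul' a b := by simp

theorem lin_injective : Function.Injective (lin (F := F) (n := n)) := fun a b h =>
  Subtype.ext (Matrix.toLinAlgEquiv'.injective h)

variable {p : ℕ} [Fact p.Prime] [CharP F p]

/-- An element of `End V` with `A ^ 3 = 0` gives an element `1 + A` of `SL`. -/
theorem exists_one_add (p : ℕ) [Fact p.Prime] [CharP F p] (A : (Module.End F (Fin n → F))) (hA : A ^ 3 = 0) : ∃ g : (Matrix.SpecialLinearGroup (Fin n) F), lin g = 1 + A := by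
  set T : Matrix (Fin n) (Fin n) F ≃ₐ[F] (Module.End F (Fin n → F)) := Matrix.toLinAlgEquiv' with hT
  have h3 : 3 ≤ p ^ 2 := by
    have := Nat.pow_le_pow_left (Fact.out : p.Prime).two_le 2
    omega
  have hM : (T.symm A) ^ p ^ 2 = 0 := by rw [← map_pow, pow_eq_zero_of_le h3 hA, map_zero]
  have hdet : (1 + T.symm A).det = 1 := by
    have h1 : ((1 + T.symm A).det) ^ p ^ 2 = 1 := by
      rw [← Matrix.det_pow, add_pow_char_pow_of_commute p 2 (Commute.one_left _), one_pow, hM, add_zero, Matrix.det_one]
    have h2 : ((1 + T.symm A).det - 1) ^ p ^ 2 = 0 := by rw [sub_pow_char_pow, one_pow, h1, sub_self]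
    exact sub_eq_zero.1 (eq_zero_of_pow_eq_zero h2)
  refine ⟨⟨_, hdet⟩, ?_⟩
  show T (1 + T.symm A) = 1 + A
  rw [map_add, map_one, T.apply_symm_apply]

/-- A commuting element with square-zero unipotent part. -/
theorem exists_sq_zero {g x : (Matrix.SpecialLinearGroup (Fin n) F)} (hx : orderOf x = p) (hgx : Commute g x) :
    ∃ (y : (Matrix.SpecialLinearGroup (Fin n) F)) (N : (Module.End F (Fin n → F))), lin y = 1 + N ∧ N * N = 0 ∧ N ≠ 0 ∧ Commute g y ∧ y ^ p = 1 := by
  classical
  set X : (Module.End F (Fin n → F)) := lin x - 1 with hX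
  have hCharP : CharP (Module.End F (Fin n → F)) p := charP_of_injective_algebraMap (FaithfulSMul.algebraMap_injective F (Module.End F (Fin n → F))) p
  have hxp : X ^ p = 0 := by
    rw [hX, sub_pow_char_of_commute p (Commute.one_right _), one_pow, ← map_pow, ← hx, pow_orderOf_eq_one, map_one, sub_self]
  have hX0 : X ≠ 0 := fun h => by
    have : x = 1 := lin_injective (by rw [map_one, ← sub_eq_zero]; exact h)
    rw [this, orderOf_one] at hx
    exact (Fact.out : p.Prime).ne_one hx.symm
  have hex : ∃ m, X ^ m = 0 := ⟨p, hxp⟩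
  have hm := Nat.find_spec hex
  have hm2 : 2 ≤ Nat.find hex := by
    by_contra hlt
    rcases (by omega : Nat.find hex = 0 ∨ Nat.find hex = 1) with h | h <;> rw [h] at hm
    · rw [pow_zero] at hm; exact hX0 (by rw [← one_mul X, hm, zero_mul])
    · rw [pow_one] at hm; exact hX0 hm
  set N := X ^ (Nat.find hex - 1) with hN
  have hN2 : N * N = 0 := by rw [hN, ← pow_add]; exact pow_eq_zero_of_le (by omega) hm
  obtain ⟨y, hy⟩ := exists_one_add p N (by rw [pow_succ, pow_two, hN2, zero_mul])
  have hNp : N ^ p = 0 := pow_eq_zero_of_le (Fact.out : p.Prime).two_le (by rw [pow_two, hN2])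
  refine ⟨y, N, hy, hN2, Nat.find_min hex (by omega), ?_, ?_⟩
  · refine lin_injective ?_
    rw [map_mul, map_mul, hy]
    exact (((hgx.map lin).sub_right (Commute.one_right _)).pow_right _).symm.symm |>.add_right (Commute.one_right _) |> fun h => by
      rw [add_comm]; exact h
  · refine lin_injective ?_
    rw [map_pow, hy, add_pow_char_of_commute p (Commute.one_left _), one_pow, hNp, add_zero, map_one]

/-- The centraliser of `1 + N` and its unipotent normal subgroup. -/
def radMem (N A : (Module.End F (Fin n → F))) : Prop :=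
  N * A = 0 ∧ A * N = 0 ∧ ∀ v : Fin n → F, N v = 0 → ∃ w : Fin n → F, A v = N w

variable {N : (Module.End F (Fin n → F))}

theorem radMem_mul {A B : (Module.End F (Fin n → F))} (hA : radMem N A) (hB : radMem N B) : radMem N (A + B + A * B) := by
  refine ⟨by rw [mul_add, mul_add, ← mul_assoc, hA.1, hB.1, zero_mul, add_zero, add_zero],
    by rw [add_mul, add_mul, mul_assoc, hA.2.1, hB.2.1, mul_zero, add_zero, add_zero], fun v hv => ?_⟩
  obtain ⟨a, ha⟩ := hA.2.2 v hv
  obtain ⟨b, hb⟩ := hB.2.2 v hv
  refine ⟨a + b, ?_⟩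
  rw [LinearMap.add_apply, LinearMap.add_apply, Module.End.mul_apply, ha, hb, map_add]
  have : A (N b) = 0 := by rw [← Module.End.mul_apply, hA.2.1, LinearMap.zero_apply]
  rw [this, add_zero]

theorem radMem_cube {A : (Module.End F (Fin n → F))} (hA : radMem N A) : A ^ 3 = 0 := by
  refine LinearMap.ext fun v => ?_
  have h1 : N (A v) = 0 := by rw [← Module.End.mul_apply, hA.1, LinearMap.zero_apply]
  obtain ⟨w, hw⟩ := hA.2.2 _ h1
  show (A ^ 3) v = 0
  rw [pow_succ, pow_two, Module.End.mul_apply, Module.End.mul_apply]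
  have h2 : A (A (A v)) = A (N w) := by rw [hw]
  rw [h2, ← Module.End.mul_apply, hA.2.1, LinearMap.zero_apply]

/-- A group element commuting with all such unipotent elements is scalar plus square zero. -/
theorem commute_rad (hN : N * N = 0) (hN0 : N ≠ 0) {x : (Matrix.SpecialLinearGroup (Fin n) F)}
    (h : ∀ (A : (Module.End F (Fin n → F))), radMem N A → Commute (lin x) A) :
    ∃ (l : F) (φ : (Module.End F (Fin n → F))), lin x = l • 1 + φ ∧ φ * φ = 0 := by
  classical
  obtain ⟨v0, hv0⟩ : ∃ v, N v ≠ 0 := by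
    by_contra hh; push Not at hh; exact hN0 (LinearMap.ext hh)
  have hNN : ∀ v, N (N v) = 0 := fun v => by rw [← Module.End.mul_apply, hN, LinearMap.zero_apply]
  obtain ⟨ψ0, hψ0, hψK⟩ := Submodule.exists_dual_map_eq_bot_of_notMem (p := LinearMap.ker N) (x := v0) hv0 inferInstance
  have hK : ∀ v, N v = 0 → ψ0 v = 0 := fun v hv => by
    have : ψ0 v ∈ (LinearMap.ker N).map ψ0 := Submodule.mem_map_of_mem hv
    rwa [hψK, Submodule.mem_bot] at this
  set X := lin x
  set l := ψ0 (X v0) * (ψ0 v0)⁻¹
  have hker : ∀ u, N u = 0 → X u = l • u := by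
    intro u hu
    have hm : radMem N (ψ0.smulRight u) := by
      refine ⟨LinearMap.ext fun v => ?_, LinearMap.ext fun v => ?_, fun v hv => ⟨0, ?_⟩⟩
      · rw [Module.End.mul_apply, LinearMap.smulRight_apply, map_smul, hu, smul_zero, LinearMap.zero_apply]
      · rw [Module.End.mul_apply, LinearMap.smulRight_apply, hK _ (hNN v), zero_smul, LinearMap.zero_apply]
      · rw [LinearMap.smulRight_apply, hK v hv, zero_smul, map_zero]
    have h1 := LinearMap.congr_fun (h _ hm).eq v0
    simp only [Module.End.mul_apply, LinearMap.smulRight_apply, map_smul] at h1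
    rw [show l • u = (ψ0 v0)⁻¹ • (ψ0 (X v0) • u) by rw [smul_smul, mul_comm], ← h1, smul_smul,
      inv_mul_cancel₀ hψ0, one_smul]
  refine ⟨l, X - l • 1, (add_sub_cancel _ _).symm, LinearMap.ext fun v => ?_⟩
  have him : (X - l • 1) v ∈ LinearMap.range N := by
    by_contra hv
    obtain ⟨ψ, hψ, hψW⟩ := Submodule.exists_dual_map_eq_bot_of_notMem (p := LinearMap.range N) hv inferInstance
    have hW : ∀ w, ψ (N w) = 0 := fun w => by
      have : ψ (N w) ∈ (LinearMap.range N).map ψ := Submodule.mem_map_of_mem (LinearMap.mem_range_self N w)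
      rwa [hψW, Submodule.mem_bot] at this
    have hm : radMem N (ψ.smulRight (N v0)) := by
      refine ⟨LinearMap.ext fun w => ?_, LinearMap.ext fun w => ?_, fun w _ => ⟨ψ w • v0, ?_⟩⟩
      · rw [Module.End.mul_apply, LinearMap.smulRight_apply, map_smul, hNN, smul_zero, LinearMap.zero_apply]
      · rw [Module.End.mul_apply, LinearMap.smulRight_apply, hW, zero_smul, LinearMap.zero_apply]
      · rw [LinearMap.smulRight_apply, map_smul]
    have h1 := LinearMap.congr_fun (h _ hm).eq v
    simp only [Module.End.mul_apply, LinearMap.smulRight_apply, map_smul] at h1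
    rw [hker _ (hNN v0), smul_smul] at h1
    have h2 := smul_left_injective F hv0 h1
    refine hψ ?_
    rw [LinearMap.sub_apply, map_sub, LinearMap.smul_apply, Module.End.one_apply, map_smul, smul_eq_mul, ← h2]
    ring
  obtain ⟨w, hw⟩ := him
  rw [Module.End.mul_apply, ← hw, LinearMap.sub_apply, hker _ (hNN w)]
  simp

/-- The unipotent normal subgroup of the centraliser of `1 + N`. -/
def radGroup (N : (Module.End F (Fin n → F))) (H : Subgroup (Matrix.SpecialLinearGroup (Fin n) F)) : Subgroup H :=
  Subgroup.closure {g : H | radMem N (lin (g : (Matrix.SpecialLinearGroup (Fin n) F)) - 1)}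

theorem radMem_of_mem {H : Subgroup (Matrix.SpecialLinearGroup (Fin n) F)} {g : H} (hg : g ∈ radGroup N H) : radMem N (lin (g : (Matrix.SpecialLinearGroup (Fin n) F)) - 1) := by
  induction hg using Subgroup.closure_induction_left with
  | one => simpa [radMem] using fun v _ => ⟨0, (map_zero N).symm⟩
  | mul_left a ha b _ ihb =>
    have := radMem_mul ha ihb
    convert this using 1
    rw [Subgroup.coe_mul, map_mul, sub_mul, mul_sub, mul_sub, one_mul, one_mul, mul_one]
    abel
  | inv_mul_cancel a ha b _ ihb =>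
    obtain ⟨k, hk⟩ : ∃ k : ℕ, a⁻¹ = a ^ k := by
      obtain ⟨k, hk⟩ := (isOfFinOrder_of_finite a).mem_powers_iff_mem_zpowers.2 (Subgroup.inv_mem _ (Subgroup.mem_zpowers a))
      exact ⟨k, hk.symm⟩
    rw [hk]
    clear hk
    induction k with
    | zero => simpa using ihb
    | succ k ih =>
      have := radMem_mul ha ih
      convert this using 1
      rw [pow_succ', mul_assoc, Subgroup.coe_mul, map_mul, sub_mul, mul_sub, mul_sub, one_mul, one_mul, mul_one]
      abel

variable {M : Ideal AlgInt} [M.IsPrime]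

/-- The central character of a block of positive defect kills noncentral regular classes. -/
theorem omegaBar_eq_zero (hM : IsPModular p M) {B : Set (IrrCharacter (Matrix.SpecialLinearGroup (Fin n) F))} (hB : IsPBlock M B)
    (hdef : blockDefect p B ≠ 0) {χ : IrrCharacter (Matrix.SpecialLinearGroup (Fin n) F)} (hχ : χ ∈ B) {h : (Matrix.SpecialLinearGroup (Fin n) F)} (hreg : ¬ p ∣ orderOf h)
    (hc : h ∉ Subgroup.center (Matrix.SpecialLinearGroup (Fin n) F)) : omegaBar M χ (classSumR M h) = 0 := by
  classical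
  obtain ⟨D, hD⟩ := exists_isDefectGroup (p := p) hB
  have hne : D ≠ ⊥ := fun h => hdef ((blockDefect_eq_zero_iff hM hB hD).2 h)
  obtain ⟨g, hg, hgD⟩ := isDefectGroup_iff.1 hD
  obtain ⟨x, hx⟩ : ∃ x : D, orderOf x = p := by
    have : Nontrivial D := (Subgroup.nontrivial_iff_ne_bot D).mpr hne
    obtain ⟨k, hk⟩ := IsPGroup.iff_card.1 (isPGroup_of_isDefectGroup hD)
    refine exists_prime_orderOf_dvd_card' p ?_
    rw [hk]
    refine dvd_pow_self p fun h0 => ?_
    rw [h0, pow_zero] at hk
    exact (Finite.one_lt_card (α := D)).ne' hk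
  have hgx : Commute g (x : (Matrix.SpecialLinearGroup (Fin n) F)) :=
    (Subgroup.mem_centralizer_iff.1 (le_centralizer_singleton_iff.1 hgD.2.1) x x.2).symm
  obtain ⟨y, N, hy, hN2, hN0, hgy, hyp⟩ := exists_sq_zero (p := p) (by rw [Subgroup.orderOf_coe]; exact hx) hgx
  have hQ : IsPGroup p (Subgroup.zpowers y) := by
    rintro ⟨w, hw⟩
    obtain ⟨i, rfl⟩ := Subgroup.mem_zpowers_iff.1 hw
    refine ⟨1, Subtype.ext ?_⟩
    show (y ^ i) ^ (p ^ 1) = 1
    rw [pow_one, ← zpow_natCast, zpow_comm, zpow_natCast, hyp, one_zpow]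
  set H := Subgroup.centralizer (Subgroup.zpowers y : Set (Matrix.SpecialLinearGroup (Fin n) F))
  have hgH : g ∈ H := by
    rw [Subgroup.mem_centralizer_iff]
    intro w hw
    obtain ⟨i, rfl⟩ := Subgroup.mem_zpowers_iff.1 hw
    exact ((hgy.zpow_right i).eq).symm
  obtain ⟨ξ, hξ⟩ := exists_brPhi_eq hM hQ le_rfl (Subgroup.centralizer_le_normalizer _) hB hgH hg.2.1 hχ
  rw [← hξ, brPhi_apply]
  have hHN : ∀ a : H, Commute (lin (a : (Matrix.SpecialLinearGroup (Fin n) F))) N := fun a => by
    have h1 : Commute (lin (a : (Matrix.SpecialLinearGroup (Fin n) F))) (lin y) :=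
      Commute.map (Subgroup.mem_centralizer_iff.1 a.2 y (Subgroup.mem_zpowers y)).symm lin
    rw [hy] at h1
    simpa using h1.sub_right (Commute.one_right _)
  set R := radGroup N H
  have hnorm : R.Normal := ⟨fun a ha b => by
    have : a ∈ Subgroup.closure {g : H | radMem N (lin (g : (Matrix.SpecialLinearGroup (Fin n) F)) - 1)} := ha
    induction this using Subgroup.closure_induction with
    | mem a hm =>
      refine Subgroup.subset_closure ?_
      obtain ⟨h1, h2, h3⟩ := hm
      show radMem N (lin ((b * a * b⁻¹ : H) : (Matrix.SpecialLinearGroup (Fin n) F)) - 1)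
      have hbb : lin (b : (Matrix.SpecialLinearGroup (Fin n) F)) * lin ((b⁻¹ : H) : (Matrix.SpecialLinearGroup (Fin n) F)) = 1 := by
        rw [← map_mul, ← Subgroup.coe_mul, mul_inv_cancel, OneMemClass.coe_one, map_one]
      have he : lin ((b * a * b⁻¹ : H) : (Matrix.SpecialLinearGroup (Fin n) F)) - 1 = lin (b : (Matrix.SpecialLinearGroup (Fin n) F)) * (lin (a : (Matrix.SpecialLinearGroup (Fin n) F)) - 1) * lin ((b⁻¹ : H) : (Matrix.SpecialLinearGroup (Fin n) F)) := by
        rw [Subgroup.coe_mul, Subgroup.coe_mul, map_mul, map_mul, mul_sub, sub_mul, mul_one, hbb]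
      rw [he]
      refine ⟨?_, ?_, fun v hv => ?_⟩
      · rw [← mul_assoc, ← mul_assoc, ← (hHN b).eq, mul_assoc _ N, h1, mul_zero, zero_mul]
      · rw [mul_assoc, (hHN b⁻¹).eq, ← mul_assoc, mul_assoc _ _ N, h2, mul_zero, zero_mul]
      · have hv' : N (lin ((b⁻¹ : H) : (Matrix.SpecialLinearGroup (Fin n) F)) v) = 0 := by
          rw [← Module.End.mul_apply, ← (hHN b⁻¹).eq, Module.End.mul_apply, hv, map_zero]
        obtain ⟨w, hw⟩ := h3 _ hv'
        refine ⟨lin (b : (Matrix.SpecialLinearGroup (Fin n) F)) w, ?_⟩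
        rw [Module.End.mul_apply, Module.End.mul_apply, hw, ← Module.End.mul_apply, (hHN b).eq, Module.End.mul_apply]
    | one => simp
    | mul a c ha' hc' iha ihc =>
      have := R.mul_mem (iha ha') (ihc hc')
      simpa [mul_assoc] using this
    | inv a ha' iha =>
      have := R.inv_mem (iha ha')
      simpa [mul_assoc] using this⟩
  have hRp : IsPGroup p R := by
    intro a
    refine ⟨2, Subtype.ext (Subtype.ext (lin_injective ?_))⟩
    have hm := radMem_of_mem a.2
    have hCharP : CharP (Module.End F (Fin n → F)) p := charP_of_injective_algebraMap (FaithfulSMul.algebraMap_injective F (Module.End F (Fin n → F))) p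
    show lin (((a : H) : (Matrix.SpecialLinearGroup (Fin n) F)) ^ p ^ 2) = lin 1
    have h3 : 3 ≤ p ^ 2 := by
      have := Nat.pow_le_pow_left (Fact.out : p.Prime).two_le 2
      omega
    rw [map_pow, map_one, ← sub_eq_zero]
    have h4 := sub_pow_char_pow_of_commute (x := lin ((a : H) : (Matrix.SpecialLinearGroup (Fin n) F))) (y := 1) p 2 (Commute.one_right _)
    rw [pow_eq_zero_of_le h3 (radMem_cube hm), one_pow] at h4
    exact h4.symm
  refine omegaBar_eq_zero_of_coeff_centralizer hM R hRp ξ fun a ha => ?_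
  simp only [coe_brR, coeff_trunc, classSumR, coeff_classSum]
  split_ifs with h1 h2
  · exfalso
    obtain ⟨l, φ, hl, hφ⟩ := commute_rad hN2 hN0 (x := (a : (Matrix.SpecialLinearGroup (Fin n) F))) fun A hA => by
      obtain ⟨u, hu⟩ := exists_one_add p A (radMem_cube hA)
      have huH : u ∈ H := by
        rw [Subgroup.mem_centralizer_iff]
        intro w hw
        obtain ⟨i, rfl⟩ := Subgroup.mem_zpowers_iff.1 hw
        refine ((Commute.zpow_right ?_ i).eq).symm
        refine lin_injective ?_
        rw [map_mul, map_mul, hu, hy]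
        simp only [mul_add, add_mul, one_mul, mul_one, hA.1, hA.2.1]
        abel
      have hmem : (⟨u, huH⟩ : H) ∈ R := Subgroup.subset_closure (by
        show radMem N (lin u - 1)
        rw [hu, add_sub_cancel_left]
        exact hA)
      have h5 : Commute (lin (a : (Matrix.SpecialLinearGroup (Fin n) F))) (lin u) :=
        Commute.map (congrArg Subtype.val (Subgroup.mem_centralizer_iff.1 ha ⟨u, huH⟩ hmem)).symm lin
      rw [hu] at h5
      simpa using h5.sub_right (Commute.one_right _)
    obtain ⟨c, hca⟩ := isConj_iff.1 h2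
    have hap : ¬ p ∣ orderOf (a : (Matrix.SpecialLinearGroup (Fin n) F)) := by
      rw [← hca, show orderOf (c * h * c⁻¹) = orderOf h from
        orderOf_injective (MulAut.conj c).toMonoidHom (MulAut.conj c).injective h]
      exact hreg
    have hCharP : CharP (Module.End F (Fin n → F)) p := charP_of_injective_algebraMap (FaithfulSMul.algebraMap_injective F (Module.End F (Fin n → F))) p
    have hap' : lin ((a : (Matrix.SpecialLinearGroup (Fin n) F)) ^ p) = l ^ p • 1 := by
      rw [map_pow, hl, add_pow_char_of_commute p ((Commute.one_left φ).smul_left l), smul_pow, one_pow,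
        pow_eq_zero_of_le (Fact.out : p.Prime).two_le (by rw [pow_two]; exact hφ : φ ^ 2 = 0), add_zero]
    have hpc : (a : (Matrix.SpecialLinearGroup (Fin n) F)) ^ p ∈ Subgroup.center (Matrix.SpecialLinearGroup (Fin n) F) := Subgroup.mem_center_iff.2 fun z => lin_injective (by
      rw [map_mul, map_mul, hap', smul_mul_assoc, mul_smul_comm, one_mul, mul_one])
    have hac : (a : (Matrix.SpecialLinearGroup (Fin n) F)) ∈ Subgroup.center (Matrix.SpecialLinearGroup (Fin n) F) := by
      obtain ⟨i, hi⟩ := exists_pow_eq_self_of_coprime ((Nat.Prime.coprime_iff_not_dvd Fact.out).2 hap)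
      rw [← hi]
      exact Subgroup.pow_mem _ hpc i
    refine hc ?_
    have : h = c⁻¹ * (a : (Matrix.SpecialLinearGroup (Fin n) F)) * c := by rw [← hca]; group
    rw [this, Subgroup.mem_center_iff.1 hac c⁻¹, mul_assoc, inv_mul_cancel, mul_one]
    exact hac
  all_goals simp

/-- Blocks of positive defect with the same central character coincide. -/
theorem block_eq_of_center (hM : IsPModular p M) {B B' : Set (IrrCharacter (Matrix.SpecialLinearGroup (Fin n) F))} (hB : IsPBlock M B)
    (hB' : IsPBlock M B') (hd : blockDefect p B ≠ 0) (hd' : blockDefect p B' ≠ 0) {χ χ' : IrrCharacter (Matrix.SpecialLinearGroup (Fin n) F)}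
    (hχ : χ ∈ B) (hχ' : χ' ∈ B')
    (h : ∀ z ∈ Subgroup.center (Matrix.SpecialLinearGroup (Fin n) F), omegaBar M χ (classSumR M z) = omegaBar M χ' (classSumR M z)) : B = B' := by
  classical
  refine isPBlock_eq_of_mem hB hB' (χ := χ') ?_ hχ'
  by_contra hno
  have h1 : omegaBar M χ' (blockIdem M hB) = omegaBar M χ (blockIdem M hB) := by
    have := Fintype.ofFinite (ConjClasses (Matrix.SpecialLinearGroup (Fin n) F))
    rw [omegaBar_eq_sum, omegaBar_eq_sum]
    refine Finset.sum_congr rfl fun C _ => ?_
    by_cases hs : p ∣ orderOf (classRep C)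
    · rw [show residue M ((blockIdem M hB : MonoidAlgebra (localRing M) (Matrix.SpecialLinearGroup (Fin n) F)).coeff (classRep C)) = 0 by
        rw [residue_eq_zero_iff, coe_coeff_blockIdem, blockCoeff_eq_zero_of_pSingular hM hB hs]
        exact memLocalIdeal_zero, zero_mul, zero_mul]
    · congr 1
      by_cases hz : classRep C ∈ Subgroup.center (Matrix.SpecialLinearGroup (Fin n) F)
      · exact (h _ hz).symm
      · rw [omegaBar_eq_zero hM hB hd hχ hs hz, omegaBar_eq_zero hM hB' hd' hχ' hs hz]
  rw [omegaBar_blockIdem, omegaBar_blockIdem, if_neg hno, if_pos hχ] at h1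
  exact zero_ne_one h1

end Cfsg.Agent.Lib.SLBlocks
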