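import Cfsg.Agent.Lib.SLBlocks.Monomial

/-!
Projective simple modules of `SL n F` in the defining characteristic.
-/

set_option autoImplicit false
set_option linter.unusedSectionVars false

namespace Cfsg.Agent.Lib.SLBlocks

open Matrix

section General

variable {p : ℕ} [Fact p.Prime] {k : Type} [Field k] [CharP k p]
variable {P : Type} [Group P] [Finite P] {V : Type} [AddCommGroup V] [Module k V]

/-- A `p`-group fixes a non-zero vector of an invariant subspace. -/
theorem exists_fixed (hP : IsPGroup p P) (σ : Representation k P V) (W : Submodule k V)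
    (hW : ∀ u : P, ∀ w ∈ W, σ u w ∈ W) {v : V} (hv : v ∈ W) (hv0 : v ≠ 0) :
    ∃ w ∈ W, w ≠ 0 ∧ ∀ u : P, σ u w = w := by
  classical
  cases nonempty_fintype P
  have hp0 : ∀ x : V, (p : ℤ) • x = 0 := fun x => by
    rw [← Int.cast_smul_eq_zsmul k, Int.cast_natCast, CharP.cast_eq_zero, zero_smul]
  let g : P → ZMod p →+ V := fun u => ZMod.lift p ⟨zmultiplesHom V (σ u v), by simpa using hp0 (σ u v)⟩
  let Φ : (P → ZMod p) →+ V :=
    { toFun := fun f => ∑ u, g u (f u)
      map_zero' := by simp
      map_add' := fun f f' => by simp [Finset.sum_add_distrib] }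
  have hg : ∀ (u : P) (z : ZMod p), g u z = (z.cast : ℤ) • σ u v := by
    intro u z
    conv_lhs => rw [← ZMod.intCast_zmod_cast z]
    simp only [g, ZMod.lift_coe, zmultiplesHom_apply]
  let O : AddSubgroup V := Φ.range
  have hfin : Finite O := Finite.of_surjective Φ.rangeRestrict Φ.rangeRestrict_surjective
  have hvO : v ∈ O := ⟨Pi.single 1 1, by
    show ∑ u, g u (Pi.single (M := fun _ => ZMod p) 1 1 u) = v
    rw [Fintype.sum_eq_single 1 (fun u hu => by rw [Pi.single_eq_of_ne hu, map_zero]), Pi.single_eq_same,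
      show (1 : ZMod p) = ((1 : ℤ) : ZMod p) by simp]
    simp only [g, ZMod.lift_coe, zmultiplesHom_apply, one_smul, map_one, Module.End.one_apply]⟩
  have hOW : ∀ x ∈ O, x ∈ W := by
    rintro x ⟨f, rfl⟩
    show ∑ u, g u (f u) ∈ W
    exact W.sum_mem fun u _ => by rw [hg]; exact W.toAddSubgroup.zsmul_mem (hW u v hv) _
  have hstab : ∀ (w : P) (x : V), x ∈ O → σ w x ∈ O := by
    rintro w x ⟨f, rfl⟩
    refine ⟨fun u => f (w⁻¹ * u), ?_⟩
    show ∑ u, g u (f (w⁻¹ * u)) = σ w (∑ u, g u (f u))
    rw [map_sum, ← Equiv.sum_comp (Equiv.mulLeft w)]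
    refine Finset.sum_congr rfl fun u _ => ?_
    rw [Equiv.coe_mulLeft, inv_mul_cancel_left, hg, hg, map_zsmul, map_mul, Module.End.mul_apply]
  let act : MulAction P O :=
    { smul := fun w x => ⟨σ w x.1, hstab w x.1 x.2⟩
      one_smul := fun x => Subtype.ext (by show σ 1 x.1 = x.1; rw [map_one, Module.End.one_apply])
      mul_smul := fun a b x => Subtype.ext (by show σ (a * b) x.1 = σ a (σ b x.1); rw [map_mul, Module.End.mul_apply]) }
  have hdvd : p ∣ Nat.card O := by
    have h1 : addOrderOf (⟨v, hvO⟩ : O) = p := by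
      refine addOrderOf_eq_prime (Subtype.ext ?_) (fun h => hv0 (congrArg Subtype.val h))
      show p • v = 0
      rw [← natCast_zsmul]; exact hp0 v
    rw [← h1]
    exact addOrderOf_dvd_natCard _
  have h0 : (0 : O) ∈ MulAction.fixedPoints P O := fun u => Subtype.ext (map_zero (σ u))
  obtain ⟨b, hb, hb0⟩ := hP.exists_fixed_point_of_prime_dvd_card_of_fixed_point O hdvd h0
  exact ⟨b.1, hOW _ b.2, fun h => hb0 (Subtype.ext h.symm), fun u => congrArg Subtype.val (hb u)⟩

/-- An eigenvector of an operator killed by a split polynomial. -/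
theorem exists_eigen (f : Module.End k V) (W : Submodule k V) (hW : ∀ w ∈ W, f w ∈ W) :
    ∀ (l : List k) (w : V), w ∈ W → w ≠ 0 →
      Polynomial.aeval f (l.map fun a => Polynomial.X - Polynomial.C a).prod w = 0 →
      ∃ (w' : V) (a : k), w' ∈ W ∧ w' ≠ 0 ∧ f w' = a • w' := by
  intro l
  induction l with
  | nil => intro w _ hw0 h; simp at h; exact absurd h hw0
  | cons a l ih =>
    intro w hw hw0 h
    simp only [List.map_cons, List.prod_cons, map_mul, Module.End.mul_apply] at h
    by_cases h1 : Polynomial.aeval f (l.map fun a => Polynomial.X - Polynomial.C a).prod w = 0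
    · exact ih w hw hw0 h1
    · refine ⟨_, a, ?_, h1, ?_⟩
      · have : ∀ P : Polynomial k, Polynomial.aeval f P w ∈ W := by
          intro P
          induction P using Polynomial.induction_on with
          | C c => simpa using W.smul_mem c hw
          | add P Q hP hQ => rw [map_add, LinearMap.add_apply]; exact W.add_mem hP hQ
          | monomial m c hP =>
            rw [show Polynomial.C c * Polynomial.X ^ (m + 1) = Polynomial.X * (Polynomial.C c * Polynomial.X ^ m) by ring,
              map_mul, Module.End.mul_apply, Polynomial.aeval_X]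
            exact hW _ hP
        exact this _
      · rw [map_sub, Polynomial.aeval_X, Polynomial.aeval_C, LinearMap.sub_apply, sub_eq_zero] at h
        exact h

end General

variable {F : Type} [Field F] [Fintype F] {n : ℕ} {p : ℕ} [Fact p.Prime] [CharP F p]
variable {k : Type} [Field k] [CharP k p] {V : Type} [AddCommGroup V] [Module k V]
variable (ρ : Representation k (SpecialLinearGroup (Fin n) F) V)

theorem rho_mul (a b : SpecialLinearGroup (Fin n) F) (x : V) : ρ (a * b) x = ρ a (ρ b x) := by
  rw [map_mul, Module.End.mul_apply]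

/-- A simple submodule which is relatively projective over the trivial group. -/
structure ProjSimple [Fintype (SpecialLinearGroup (Fin n) F)] (W : Submodule k V) : Prop where
  stable : ∀ g, ∀ w ∈ W, ρ g w ∈ W
  ne_bot : W ≠ ⊥
  simple : ∀ W' ≤ W, (∀ g, ∀ w ∈ W', ρ g w ∈ W') → W' ≠ ⊥ → W' = W
  proj : ∃ φ : V →ₗ[k] V, (∀ w ∈ W, φ w ∈ W) ∧ ∀ w ∈ W, w = ∑ g, ρ g⁻¹ (φ (ρ g w))

/-- A highest weight vector. -/
def IsHighest (v : V) : Prop :=
  (∀ u ∈ upper F n, ρ u v = v) ∧ (∀ d, IsMon d 1 → ∃ a : k, ρ d v = a • v) ∧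
    ∀ (i j : Fin n) (hij : i ≠ j), (j : ℕ) = i + 1 →
      ∃ μ : k, ∑ t : F, ρ (SpecialLinearGroup.transvection hij t * nE hij) v = μ • v

/-- The span of the translates by the lower unitriangular group. -/
def lowerSpan (v : V) : Submodule k V :=
  Submodule.span k (Set.range fun u : lower F n => ρ (u : SpecialLinearGroup (Fin n) F) v)

theorem mem_lowerSpan_self (v : V) : v ∈ lowerSpan ρ v :=
  Submodule.subset_span ⟨1, by simp⟩

theorem conj_swap_mem_lower {i j : Fin n} (hij : i ≠ j) (hadj : (j : ℕ) = i + 1)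
    {u : SpecialLinearGroup (Fin n) F} (hu : u ∈ lower F n) (h0 : (u : Matrix (Fin n) (Fin n) F) j i = 0) :
    nE hij * u * (nE hij)⁻¹ ∈ lower F n := by
  rw [mem_lower] at hu ⊢
  intro r c
  have hg := isMon_nE (F := F) hij
  obtain ⟨a, rfl⟩ := (Equiv.swap i j).surjective r
  refine ⟨fun hlt => ?_, ?_⟩
  · obtain ⟨b, rfl⟩ := (Equiv.swap i j).surjective c
    have h := mon_conj_apply (X := u) hg a b
    have hz : (u : Matrix (Fin n) (Fin n) F) a b = 0 := by
      rcases lt_trichotomy a b with h1 | h1 | h1
      · exact (hu a b).1 h1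
      · subst h1; exact absurd hlt (lt_irrefl _)
      · have : a = j ∧ b = i := by
          rw [Equiv.swap_apply_def, Equiv.swap_apply_def] at hlt
          simp only [Fin.ext_iff, Fin.lt_def] at *
          split_ifs at hlt <;> omega
        rw [this.1, this.2, h0]
    rw [hz, mul_zero] at h
    exact (mul_eq_zero.1 h).resolve_right (mon_ne_zero hg b)
  · have h := mon_conj_apply (X := u) hg a a
    rw [(hu a a).2, mul_one] at h
    exact mul_eq_right₀ (mon_ne_zero hg a) |>.1 h

/-- Conjugating a root element by a monomial element. -/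
theorem mon_mul_transvection {g : SpecialLinearGroup (Fin n) F} {w : Equiv.Perm (Fin n)} (hg : IsMon g w)
    {a b : Fin n} (hab : a ≠ b) (t : F) :
    g * SpecialLinearGroup.transvection hab t =
      SpecialLinearGroup.transvection (w.injective.ne hab)
        ((g : Matrix (Fin n) (Fin n) F) (w a) a * t / (g : Matrix (Fin n) (Fin n) F) (w b) b) * g := by
  refine Subtype.ext (Matrix.ext fun r c => ?_)
  obtain ⟨r, rfl⟩ := w.surjective r
  refine (mon_mul_apply (X := SpecialLinearGroup.transvection hab t) hg r c).trans ?_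
  refine Eq.trans ?_ (mul_mon_apply (X := SpecialLinearGroup.transvection (w.injective.ne hab) _) hg (w r) c).symm
  simp only [Cfsg.Agent.Lib.LinGroup.coe_transvection, Matrix.transvection, Matrix.add_apply, Matrix.one_apply,
    Matrix.single_apply, EmbeddingLike.apply_eq_iff_eq]
  have hb : (g : Matrix (Fin n) (Fin n) F) (w b) b ≠ 0 := mon_ne_zero hg b
  rcases eq_or_ne r c with rfl | hrc
  · have : ¬ (a = r ∧ b = r) := fun h => hab (h.1.trans h.2.symm)
    simp [this]
  · simp only [hrc, if_false, zero_add]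
    split_ifs with h
    · obtain ⟨rfl, rfl⟩ := h
      field_simp
    · rw [mul_zero, zero_mul]

theorem transvection_nE_mem (v : V) (hv : IsHighest ρ v) {i j : Fin n} (hij : i ≠ j) (hadj : (j : ℕ) = i + 1)
    {t : F} (ht : t ≠ 0) : ρ (SpecialLinearGroup.transvection hij t * nE hij) v ∈ lowerSpan ρ v := by
  have hlt : i < j := Fin.lt_def.2 (by omega)
  rw [transvection_mul_nE hij ht, rho_mul, hv.1 _ (transvection_mem_upper hlt _), rho_mul]
  obtain ⟨a, ha⟩ := hv.2.1 _ (isMon_diag2n hij _ (neg_ne_zero.2 ht))
  rw [ha, map_smul]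
  exact Submodule.smul_mem _ _ (Submodule.subset_span ⟨⟨_, transvection_mem_lower hlt _⟩, rfl⟩)

theorem nE_mem (v : V) (hv : IsHighest ρ v) {i j : Fin n} (hij : i ≠ j) (hadj : (j : ℕ) = i + 1) :
    ρ (nE hij) v ∈ lowerSpan ρ v := by
  classical
  obtain ⟨μ, hμ⟩ := hv.2.2 i j hij hadj
  rw [← Finset.add_sum_erase _ _ (Finset.mem_univ (0 : F)), SpecialLinearGroup.transvection_coeff_zero, one_mul] at hμ
  rw [eq_sub_of_add_eq hμ]
  exact Submodule.sub_mem _ (Submodule.smul_mem _ _ (mem_lowerSpan_self ρ v))
    (Submodule.sum_mem _ fun t ht => transvection_nE_mem ρ v hv hij hadj (Finset.ne_of_mem_erase ht))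

/-- The span of the lower translates of a highest vector is a submodule. -/
theorem lowerSpan_stable [NeZero n] (v : V) (hv : IsHighest ρ v) :
    ∀ g, ∀ w ∈ lowerSpan ρ v, ρ g w ∈ lowerSpan ρ v := by
  classical
  let Stab : Subgroup (SpecialLinearGroup (Fin n) F) :=
    { carrier := {g | ∀ w ∈ lowerSpan ρ v, ρ g w ∈ lowerSpan ρ v}
      mul_mem' := fun {a b} ha hb w hw => by rw [rho_mul]; exact ha _ (hb w hw)
      one_mem' := fun w hw => by simpa using hw
      inv_mem' := fun {a} ha w hw => by
        obtain ⟨m, hm⟩ := (isOfFinOrder_of_finite a).mem_powers_iff_mem_zpowers.2 (Subgroup.inv_mem _ (Subgroup.mem_zpowers a))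
        have key : ∀ m : ℕ, ρ (a ^ m) w ∈ lowerSpan ρ v := by
          intro m
          induction m with
          | zero => simpa using hw
          | succ m ih => rw [pow_succ', rho_mul]; exact ha _ ih
        rw [← show a ^ m = a⁻¹ from hm]
        exact key m }
  have hgen : ∀ g, (∀ u : lower F n, ρ g (ρ (u : SpecialLinearGroup (Fin n) F) v) ∈ lowerSpan ρ v) → g ∈ Stab := by
    intro g hg w hw
    induction hw using Submodule.span_induction with
    | mem x hx => obtain ⟨u, rfl⟩ := hx; exact hg u
    | zero => simp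
    | add x y _ _ hx hy => rw [map_add]; exact Submodule.add_mem _ hx hy
    | smul c x _ hx => rw [map_smul]; exact Submodule.smul_mem _ c hx
  have hlow : ∀ u ∈ lower F n, u ∈ Stab := fun u hu => hgen u fun u' => by
    rw [← rho_mul]
    exact Submodule.subset_span ⟨⟨_, mul_mem hu u'.2⟩, rfl⟩
  have hn : ∀ (i j : Fin n) (hij : i ≠ j), (j : ℕ) = i + 1 → nE hij ∈ Stab := by
    intro i j hij hadj
    refine hgen _ fun u => ?_
    have hlt : i < j := Fin.lt_def.2 (by omega)
    set t := ((u : SpecialLinearGroup (Fin n) F) : Matrix (Fin n) (Fin n) F) j i with ht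
    have hx : ∀ s : F, SpecialLinearGroup.transvection hij.symm s ∈ lower F n := fun s => transvection_mem_lower hlt s
    set u' := (u : SpecialLinearGroup (Fin n) F) * SpecialLinearGroup.transvection hij.symm (-t) with hu'
    have hu'0 : (u' : Matrix (Fin n) (Fin n) F) j i = 0 := by
      rw [hu', sl_mul, Cfsg.Agent.Lib.LinGroup.coe_transvection, Matrix.mul_transvection_apply_same,
        (mem_lower.1 u.2 j j).2, mul_one, ← ht, add_neg_cancel]
    have hu'l : u' ∈ lower F n := mul_mem u.2 (hx _)
    have hs' := mon_mul_transvection (isMon_nE (F := F) hij) hij.symm t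
    obtain ⟨s, hs, hs0⟩ : ∃ s, nE hij * SpecialLinearGroup.transvection hij.symm t =
        SpecialLinearGroup.transvection hij s * nE hij ∧ (t ≠ 0 → s ≠ 0) := by
      simp only [Equiv.swap_apply_left, Equiv.swap_apply_right] at hs'
      refine ⟨_, hs', fun ht0 => div_ne_zero (mul_ne_zero ?_ ht0) ?_⟩
      · simpa using mon_ne_zero (isMon_nE (F := F) hij) j
      · simpa using mon_ne_zero (isMon_nE (F := F) hij) i
    have he : nE hij * (u : SpecialLinearGroup (Fin n) F) =
        (nE hij * u' * (nE hij)⁻¹) * (SpecialLinearGroup.transvection hij s * nE hij) := by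
      rw [← hs, hu', ← SpecialLinearGroup.transvection_inv]
      group
    rw [← rho_mul, he, rho_mul]
    refine hlow _ (conj_swap_mem_lower hij hadj hu'l hu'0) _ ?_
    by_cases h0 : t = 0
    · rw [← hs, h0, SpecialLinearGroup.transvection_coeff_zero, mul_one]
      exact nE_mem ρ v hv hij hadj
    · exact transvection_nE_mem ρ v hv hij hadj (hs0 h0)
  have hup : ∀ (m : ℕ) (a b : Fin n) (hab : a < b), (b : ℕ) = a + m → ∀ t : F,
      SpecialLinearGroup.transvection hab.ne t ∈ Stab := by
    intro m
    induction m with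
    | zero => intro a b hab h; exact absurd (Fin.lt_def.1 hab) (by omega)
    | succ m ih =>
      intro a b hab h t
      let c : Fin n := ⟨(a : ℕ) + 1, by have := b.isLt; omega⟩
      have hac : a ≠ c := fun e => by simp [c, Fin.ext_iff] at e
      have hadj : (c : ℕ) = a + 1 := rfl
      have hg := isMon_nE (F := F) hac
      have key : ∀ (r s : Fin n) (hrs : r ≠ s), Equiv.swap a c r = a → Equiv.swap a c s = b →
          (∀ x : F, SpecialLinearGroup.transvection hrs x ∈ Stab) → SpecialLinearGroup.transvection hab.ne t ∈ Stab := by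
        intro r s hrs hr hs hmem
        have hr0 := mon_ne_zero hg r
        have hs0 := mon_ne_zero hg s
        have h1 := mon_mul_transvection hg hrs
          (t * (nE hac : SpecialLinearGroup (Fin n) F).1 (Equiv.swap a c s) s / (nE hac : SpecialLinearGroup (Fin n) F).1 (Equiv.swap a c r) r)
        simp only [hr, hs] at h1 hr0 hs0
        rw [show (nE hac : SpecialLinearGroup (Fin n) F).1 a r *
            (t * (nE hac : SpecialLinearGroup (Fin n) F).1 b s / (nE hac : SpecialLinearGroup (Fin n) F).1 a r) /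
              (nE hac : SpecialLinearGroup (Fin n) F).1 b s = t by field_simp] at h1
        rw [eq_mul_inv_iff_mul_eq.2 h1.symm]
        exact Stab.mul_mem (Stab.mul_mem (hn a c hac hadj) (hmem _)) (Stab.inv_mem (hn a c hac hadj))
      by_cases hbc : b = c
      · refine key c a hac.symm (Equiv.swap_apply_right a c) (by rw [Equiv.swap_apply_left, hbc]) fun x => ?_
        exact hlow _ (transvection_mem_lower (Fin.lt_def.2 (by omega)) x)
      · have hcb : c < b := Fin.lt_def.2 (by
          have := Fin.lt_def.1 hab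
          have : (b : ℕ) ≠ c := fun e => hbc (Fin.ext e)
          omega)
        exact key c b hcb.ne (Equiv.swap_apply_right a c) (Equiv.swap_apply_of_ne_of_ne hab.ne' hbc) (ih c b hcb (by omega))
  intro g w hw
  have : Stab = ⊤ := LinGroup.eq_top_of_transvection_mem _ fun i j hij t => by
    rcases lt_or_gt_of_ne hij with h | h
    · exact hup ((j : ℕ) - i) i j h (by have := Fin.lt_def.1 h; omega) t
    · exact hlow _ (transvection_mem_lower h t)
  exact (this ▸ Subgroup.mem_top g : g ∈ Stab) w hw

end Cfsg.Agent.Lib.SLBlocks
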